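import Cfsg.Agent.H15.IC.He.D0

/-! Generated by tools/h15/ic/ic.py (kit tools/h0/tr). -/

set_option maxRecDepth 100000
set_option maxHeartbeats 0

namespace H15.IC.He
open H16 H0.TR
open scoped commutatorElement Pointwise

theorem c0ace_m_4_0 : allZ (matEnt (wdsP H16.PHe.P c0ace_W) c0ace_P (nat_lit 4)) (nat_lit 0) (nat_lit 2058) = true := by decide +kernel
theorem c0ace_m_5_0 : allZ (matEnt (wdsP H16.PHe.P c0ace_W) c0ace_P (nat_lit 5)) (nat_lit 0) (nat_lit 2058) = true := by decide +kernel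
theorem c0ace_m_6_0 : allZ (matEnt (wdsP H16.PHe.P c0ace_W) c0ace_P (nat_lit 6)) (nat_lit 0) (nat_lit 2058) = true := by decide +kernel
theorem c0ace_m_7_0 : allZ (matEnt (wdsP H16.PHe.P c0ace_W) c0ace_P (nat_lit 7)) (nat_lit 0) (nat_lit 2058) = true := by decide +kernel
theorem c0ace_m_8_0 : allZ (matEnt (wdsP H16.PHe.P c0ace_W) c0ace_P (nat_lit 8)) (nat_lit 0) (nat_lit 2058) = true := by decide +kernel
theorem c0ace_m_9_0 : allZ (matEnt (wdsP H16.PHe.P c0ace_W) c0ace_P (nat_lit 9)) (nat_lit 0) (nat_lit 2058) = true := by decide +kernel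
theorem c0acc8_e_0 : allZ (dent c0acc8 c0ace_P (nat_lit 2058)) (nat_lit 0) (nat_lit 1) = true := by decide +kernel
theorem c0acc8_h : 0 < c0acc8.n ∧ 0 < c0acc8.K ∧ c0acc8.Pt 0 < 2058 ∧ c0acc8.Q (c0acc8.Pt 0) = 0 := by decide +kernel
theorem c0atn0_0 : (Nat.ble c0atl8.K 17 && Nat.beq (ltAll 2058 [c0atl7.Pt 0, c0atl6.Pt 0, c0atl5.Pt 0, c0atl4.Pt 0, c0atl3.Pt 0, c0atl2.Pt 0, c0atl1.Pt 0, c0atl0.Pt 0]) 0 && kChk c0ace_P c0ax_P c0atn0.Kn 1 H16.PHe.B [c0atl7.Pt 0, c0atl6.Pt 0, c0atl5.Pt 0, c0atl4.Pt 0, c0atl3.Pt 0, c0atl2.Pt 0, c0atl1.Pt 0, c0atl0.Pt 0] && H16.allL (ltAll 1) c0atn0.pre && planOK c0ath_P c0ax_P 1 (c0atl8.Pt 0) c0atn0.plan [c0atl8]) = true := by decide +kernel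
theorem c0atn0_1_0 : allZ (c0atn0.ent H16.PHe.P c0ath_P c0ax_P c0ax_P c0ace_P (nat_lit 7) (nat_lit 1) H16.PHe.B c0atl8 [] (memO c0acc8)) (nat_lit 0) (nat_lit 2) = true := by decide +kernel
theorem c0ac_f8 : (Nat.ble c0acc8.K 10 && Nat.ble (topK []) c0acc8.K && Nat.beq (c0acc8.Pt 0) (c0atl8.Pt 0) && Nat.beq (ltAll 2058 [c0atl7.Pt 0, c0atl6.Pt 0, c0atl5.Pt 0, c0atl4.Pt 0, c0atl3.Pt 0, c0atl2.Pt 0, c0atl1.Pt 0, c0atl0.Pt 0]) 0 && kChk c0ace_P c0ax_P c0acc8.K 1 H16.PHe.B [c0atl7.Pt 0, c0atl6.Pt 0, c0atl5.Pt 0, c0atl4.Pt 0, c0atl3.Pt 0, c0atl2.Pt 0, c0atl1.Pt 0, c0atl0.Pt 0]) = true := by decide +kernel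
theorem c0acc7_e_0 : allZ (dent c0acc7 c0ace_P (nat_lit 2058)) (nat_lit 0) (nat_lit 1) = true := by decide +kernel
theorem c0acc7_h : 0 < c0acc7.n ∧ 0 < c0acc7.K ∧ c0acc7.Pt 0 < 2058 ∧ c0acc7.Q (c0acc7.Pt 0) = 0 := by decide +kernel
theorem c0atn1_0 : (Nat.ble c0atl7.K 17 && Nat.beq (ltAll 2058 [c0atl6.Pt 0, c0atl5.Pt 0, c0atl4.Pt 0, c0atl3.Pt 0, c0atl2.Pt 0, c0atl1.Pt 0, c0atl0.Pt 0]) 0 && kChk c0ace_P c0ax_P c0atn1.Kn 1 H16.PHe.B [c0atl6.Pt 0, c0atl5.Pt 0, c0atl4.Pt 0, c0atl3.Pt 0, c0atl2.Pt 0, c0atl1.Pt 0, c0atl0.Pt 0] && H16.allL (ltAll 1) c0atn1.pre && planOK c0ath_P c0ax_P 1 (c0atl7.Pt 0) c0atn1.plan [c0atl7, c0atl8]) = true := by decide +kernel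
theorem c0atn1_1_0 : allZ (c0atn1.ent H16.PHe.P c0ath_P c0ax_P c0ax_P c0ace_P (nat_lit 7) (nat_lit 1) H16.PHe.B c0atl7 [c0atl8] (memO c0acc7)) (nat_lit 0) (nat_lit 2) = true := by decide +kernel
theorem c0ac_f7 : (Nat.ble c0acc7.K 10 && Nat.ble (topK [c0acc8]) c0acc7.K && Nat.beq (c0acc7.Pt 0) (c0atl7.Pt 0) && Nat.beq (ltAll 2058 [c0atl6.Pt 0, c0atl5.Pt 0, c0atl4.Pt 0, c0atl3.Pt 0, c0atl2.Pt 0, c0atl1.Pt 0, c0atl0.Pt 0]) 0 && kChk c0ace_P c0ax_P c0acc7.K 1 H16.PHe.B [c0atl6.Pt 0, c0atl5.Pt 0, c0atl4.Pt 0, c0atl3.Pt 0, c0atl2.Pt 0, c0atl1.Pt 0, c0atl0.Pt 0]) = true := by decide +kernel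
theorem c0atn2y91_lt : H16.allL (ltAll 7) c0atn2y91_W = true := by decide +kernel
theorem c0atr3k_lt : H16.allL (ltAll 7) c0atr3k_W = true := by decide +kernel
theorem c0atn3_0 : (Nat.ble c0atl7.K 17 && Nat.beq (ltAll 2058 [c0atl6.Pt 0, c0atl5.Pt 0, c0atl4.Pt 0, c0atl3.Pt 0, c0atl2.Pt 0, c0atl1.Pt 0, c0atl0.Pt 0]) 0 && kChk c0atr3k_P c0atn2y91_P c0atn3.Kn 1 H16.PHe.B [c0atl6.Pt 0, c0atl5.Pt 0, c0atl4.Pt 0, c0atl3.Pt 0, c0atl2.Pt 0, c0atl1.Pt 0, c0atl0.Pt 0] && H16.allL (ltAll 1) c0atn3.pre && planOK c0ath_P c0ax_P 1 (c0atl7.Pt 0) c0atn3.plan [c0atl7, c0atl8]) = true := by decide +kernel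
theorem c0atn3_1_0 : allZ (c0atn3.ent H16.PHe.P c0ath_P c0ax_P c0atn2y91_P c0atr3k_P (nat_lit 7) (nat_lit 1) H16.PHe.B c0atl7 [c0atl8] (fun _ => nat_lit 1)) (nat_lit 0) (nat_lit 2) = true := by decide +kernel
theorem c0atn2y89_lt : H16.allL (ltAll 7) c0atn2y89_W = true := by decide +kernel
theorem c0atr4k_lt : H16.allL (ltAll 7) c0atr4k_W = true := by decide +kernel
theorem c0atn4y18_lt : H16.allL (ltAll 7) c0atn4y18_W = true := by decide +kernel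
theorem c0atr5k_lt : H16.allL (ltAll 7) c0atr5k_W = true := by decide +kernel
theorem c0atn5_0 : (Nat.ble c0atl8.K 17 && Nat.beq (ltAll 2058 [c0atl7.Pt 0, c0atl6.Pt 0, c0atl5.Pt 0, c0atl4.Pt 0, c0atl3.Pt 0, c0atl2.Pt 0, c0atl1.Pt 0, c0atl0.Pt 0]) 0 && kChk c0atr5k_P c0atn4y18_P c0atn5.Kn 1 H16.PHe.B [c0atl7.Pt 0, c0atl6.Pt 0, c0atl5.Pt 0, c0atl4.Pt 0, c0atl3.Pt 0, c0atl2.Pt 0, c0atl1.Pt 0, c0atl0.Pt 0] && H16.allL (ltAll 1) c0atn5.pre && planOK c0ath_P c0ax_P 1 (c0atl8.Pt 0) c0atn5.plan [c0atl8]) = true := by decide +kernel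
theorem c0atn5_1_0 : allZ (c0atn5.ent H16.PHe.P c0ath_P c0ax_P c0atn4y18_P c0atr5k_P (nat_lit 7) (nat_lit 1) H16.PHe.B c0atl8 [] (fun _ => nat_lit 1)) (nat_lit 0) (nat_lit 2) = true := by decide +kernel
theorem c0atn4_0 : (Nat.ble c0atl7.K 17 && Nat.beq (ltAll 2058 [c0atl6.Pt 0, c0atl5.Pt 0, c0atl4.Pt 0, c0atl3.Pt 0, c0atl2.Pt 0, c0atl1.Pt 0, c0atl0.Pt 0]) 0 && kChk c0atr4k_P c0atn2y89_P c0atn4.Kn 1 H16.PHe.B [c0atl6.Pt 0, c0atl5.Pt 0, c0atl4.Pt 0, c0atl3.Pt 0, c0atl2.Pt 0, c0atl1.Pt 0, c0atl0.Pt 0] && H16.allL (ltAll 1) c0atn4.pre && planOK c0ath_P c0ax_P 1 (c0atl7.Pt 0) c0atn4.plan [c0atl7, c0atl8]) = true := by decide +kernel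
theorem c0atn4_1_0 : allZ (c0atn4.ent H16.PHe.P c0ath_P c0ax_P c0atn2y89_P c0atr4k_P (nat_lit 7) (nat_lit 1) H16.PHe.B c0atl7 [c0atl8] (fun _ => nat_lit 1)) (nat_lit 0) (nat_lit 2) = true := by decide +kernel
theorem c0atn2_0 : (Nat.ble c0atl6.K 17 && Nat.beq (ltAll 2058 [c0atl5.Pt 0, c0atl4.Pt 0, c0atl3.Pt 0, c0atl2.Pt 0, c0atl1.Pt 0, c0atl0.Pt 0]) 0 && kChk c0ace_P c0ax_P c0atn2.Kn 1 H16.PHe.B [c0atl5.Pt 0, c0atl4.Pt 0, c0atl3.Pt 0, c0atl2.Pt 0, c0atl1.Pt 0, c0atl0.Pt 0] && H16.allL (ltAll 1) c0atn2.pre && planOK c0ath_P c0ax_P 1 (c0atl6.Pt 0) c0atn2.plan [c0atl6, c0atl7, c0atl8]) = true := by decide +kernel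
theorem c0atn2_1_0 : allZ (c0atn2.ent H16.PHe.P c0ath_P c0ax_P c0ax_P c0ace_P (nat_lit 7) (nat_lit 1) H16.PHe.B c0atl6 [c0atl7, c0atl8] (fun w => Nat.xor w (c0atl6.Pt (nat_lit 0)))) (nat_lit 0) (nat_lit 3) = true := by decide +kernel
theorem c0acc5_e_0 : allZ (dent c0acc5 c0ace_P (nat_lit 2058)) (nat_lit 0) (nat_lit 1) = true := by decide +kernel
theorem c0acc5_h : 0 < c0acc5.n ∧ 0 < c0acc5.K ∧ c0acc5.Pt 0 < 2058 ∧ c0acc5.Q (c0acc5.Pt 0) = 0 := by decide +kernel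
theorem c0atn6_0 : (Nat.ble c0atl5.K 17 && Nat.beq (ltAll 2058 [c0atl4.Pt 0, c0atl3.Pt 0, c0atl2.Pt 0, c0atl1.Pt 0, c0atl0.Pt 0]) 0 && kChk c0ace_P c0ax_P c0atn6.Kn 1 H16.PHe.B [c0atl4.Pt 0, c0atl3.Pt 0, c0atl2.Pt 0, c0atl1.Pt 0, c0atl0.Pt 0] && H16.allL (ltAll 1) c0atn6.pre && planOK c0ath_P c0ax_P 1 (c0atl5.Pt 0) c0atn6.plan [c0atl5, c0atl6, c0atl7, c0atl8]) = true := by decide +kernel
theorem c0atn6_1_0 : allZ (c0atn6.ent H16.PHe.P c0ath_P c0ax_P c0ax_P c0ace_P (nat_lit 7) (nat_lit 1) H16.PHe.B c0atl5 [c0atl6, c0atl7, c0atl8] (memO c0acc5)) (nat_lit 0) (nat_lit 2) = true := by decide +kernel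
theorem c0ac_f5 : (Nat.ble c0acc5.K 10 && Nat.ble (topK [c0acc7, c0acc8]) c0acc5.K && Nat.beq (c0acc5.Pt 0) (c0atl5.Pt 0) && Nat.beq (ltAll 2058 [c0atl4.Pt 0, c0atl3.Pt 0, c0atl2.Pt 0, c0atl1.Pt 0, c0atl0.Pt 0]) 0 && kChk c0ace_P c0ax_P c0acc5.K 1 H16.PHe.B [c0atl4.Pt 0, c0atl3.Pt 0, c0atl2.Pt 0, c0atl1.Pt 0, c0atl0.Pt 0]) = true := by decide +kernel
theorem c0ac_f4 : (Nat.ble c0atl4.K 17 && Nat.blt (nat_lit 285) 2058 && fixLetters c0ath_P c0atl4.K (nat_lit 285) && Nat.beq (ltAll 1 [nat_lit 0]) 0 && Nat.beq (apW c0ax_P [nat_lit 0] (nat_lit 285)) (c0atl4.Pt 0)) = true := by decide +kernel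
theorem c0acc3_e_0 : allZ (dent c0acc3 c0ace_P (nat_lit 2058)) (nat_lit 0) (nat_lit 3) = true := by decide +kernel
theorem c0acc3_h : 0 < c0acc3.n ∧ 0 < c0acc3.K ∧ c0acc3.Pt 0 < 2058 ∧ c0acc3.Q (c0acc3.Pt 0) = 0 := by decide +kernel
theorem c0atn7_0 : (Nat.ble c0atl3.K 17 && Nat.beq (ltAll 2058 [c0atl2.Pt 0, c0atl1.Pt 0, c0atl0.Pt 0]) 0 && kChk c0ace_P c0ax_P c0atn7.Kn 1 H16.PHe.B [c0atl2.Pt 0, c0atl1.Pt 0, c0atl0.Pt 0] && H16.allL (ltAll 1) c0atn7.pre && planOK c0ath_P c0ax_P 1 (c0atl3.Pt 0) c0atn7.plan [c0atl3, c0atl4, c0atl5, c0atl6, c0atl7, c0atl8]) = true := by decide +kernel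
theorem c0atn7_1_0 : allZ (c0atn7.ent H16.PHe.P c0ath_P c0ax_P c0ax_P c0ace_P (nat_lit 7) (nat_lit 1) H16.PHe.B c0atl3 [c0atl4, c0atl5, c0atl6, c0atl7, c0atl8] (memO c0acc3)) (nat_lit 0) (nat_lit 4) = true := by decide +kernel
theorem c0ac_f3 : (Nat.ble c0acc3.K 10 && Nat.ble (topK [c0acc5, c0acc7, c0acc8]) c0acc3.K && Nat.beq (c0acc3.Pt 0) (c0atl3.Pt 0) && Nat.beq (ltAll 2058 [c0atl2.Pt 0, c0atl1.Pt 0, c0atl0.Pt 0]) 0 && kChk c0ace_P c0ax_P c0acc3.K 1 H16.PHe.B [c0atl2.Pt 0, c0atl1.Pt 0, c0atl0.Pt 0]) = true := by decide +kernel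
theorem c0acc2_e_0 : allZ (dent c0acc2 c0ace_P (nat_lit 2058)) (nat_lit 0) (nat_lit 1) = true := by decide +kernel
theorem c0acc2_h : 0 < c0acc2.n ∧ 0 < c0acc2.K ∧ c0acc2.Pt 0 < 2058 ∧ c0acc2.Q (c0acc2.Pt 0) = 0 := by decide +kernel
theorem c0atn8_0 : (Nat.ble c0atl2.K 17 && Nat.beq (ltAll 2058 [c0atl1.Pt 0, c0atl0.Pt 0]) 0 && kChk c0ace_P c0ax_P c0atn8.Kn 1 H16.PHe.B [c0atl1.Pt 0, c0atl0.Pt 0] && H16.allL (ltAll 1) c0atn8.pre && planOK c0ath_P c0ax_P 1 (c0atl2.Pt 0) c0atn8.plan [c0atl2, c0atl3, c0atl4, c0atl5, c0atl6, c0atl7, c0atl8]) = true := by decide +kernel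
theorem c0atn8_1_0 : allZ (c0atn8.ent H16.PHe.P c0ath_P c0ax_P c0ax_P c0ace_P (nat_lit 7) (nat_lit 1) H16.PHe.B c0atl2 [c0atl3, c0atl4, c0atl5, c0atl6, c0atl7, c0atl8] (memO c0acc2)) (nat_lit 0) (nat_lit 50) = true := by decide +kernel
theorem c0ac_f2 : (Nat.ble c0acc2.K 10 && Nat.ble (topK [c0acc3, c0acc5, c0acc7, c0acc8]) c0acc2.K && Nat.beq (c0acc2.Pt 0) (c0atl2.Pt 0) && Nat.beq (ltAll 2058 [c0atl1.Pt 0, c0atl0.Pt 0]) 0 && kChk c0ace_P c0ax_P c0acc2.K 1 H16.PHe.B [c0atl1.Pt 0, c0atl0.Pt 0]) = true := by decide +kernel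
theorem c0acc1_e_0 : allZ (dent c0acc1 c0ace_P (nat_lit 2058)) (nat_lit 0) (nat_lit 7) = true := by decide +kernel
theorem c0acc1_h : 0 < c0acc1.n ∧ 0 < c0acc1.K ∧ c0acc1.Pt 0 < 2058 ∧ c0acc1.Q (c0acc1.Pt 0) = 0 := by decide +kernel
theorem c0atn9_0 : (Nat.ble c0atl1.K 17 && Nat.beq (ltAll 2058 [c0atl0.Pt 0]) 0 && kChk c0ace_P c0ax_P c0atn9.Kn 1 H16.PHe.B [c0atl0.Pt 0] && H16.allL (ltAll 1) c0atn9.pre && planOK c0ath_P c0ax_P 1 (c0atl1.Pt 0) c0atn9.plan [c0atl1, c0atl2, c0atl3, c0atl4, c0atl5, c0atl6, c0atl7, c0atl8]) = true := by decide +kernel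
theorem c0atn9_1_0 : allZ (c0atn9.ent H16.PHe.P c0ath_P c0ax_P c0ax_P c0ace_P (nat_lit 7) (nat_lit 1) H16.PHe.B c0atl1 [c0atl2, c0atl3, c0atl4, c0atl5, c0atl6, c0atl7, c0atl8] (memO c0acc1)) (nat_lit 0) (nat_lit 136) = true := by decide +kernel
theorem c0ac_f1 : (Nat.ble c0acc1.K 10 && Nat.ble (topK [c0acc2, c0acc3, c0acc5, c0acc7, c0acc8]) c0acc1.K && Nat.beq (c0acc1.Pt 0) (c0atl1.Pt 0) && Nat.beq (ltAll 2058 [c0atl0.Pt 0]) 0 && kChk c0ace_P c0ax_P c0acc1.K 1 H16.PHe.B [c0atl0.Pt 0]) = true := by decide +kernel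
theorem c0acc0_e_0 : allZ (dent c0acc0 c0ace_P (nat_lit 2058)) (nat_lit 0) (nat_lit 41) = true := by decide +kernel
theorem c0acc0_h : 0 < c0acc0.n ∧ 0 < c0acc0.K ∧ c0acc0.Pt 0 < 2058 ∧ c0acc0.Q (c0acc0.Pt 0) = 0 := by decide +kernel
theorem c0atn10_0 : (Nat.ble c0atl0.K 17 && Nat.beq (ltAll 2058 []) 0 && kChk c0ace_P c0ax_P c0atn10.Kn 1 H16.PHe.B [] && H16.allL (ltAll 1) c0atn10.pre && planOK c0ath_P c0ax_P 1 (c0atl0.Pt 0) c0atn10.plan [c0atl0, c0atl1, c0atl2, c0atl3, c0atl4, c0atl5, c0atl6, c0atl7, c0atl8]) = true := by decide +kernel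
theorem c0atn10_1_0 : allZ (c0atn10.ent H16.PHe.P c0ath_P c0ax_P c0ax_P c0ace_P (nat_lit 7) (nat_lit 1) H16.PHe.B c0atl0 [c0atl1, c0atl2, c0atl3, c0atl4, c0atl5, c0atl6, c0atl7, c0atl8] (memO c0acc0)) (nat_lit 0) (nat_lit 2058) = true := by decide +kernel
theorem c0ac_f0 : (Nat.ble c0acc0.K 10 && Nat.ble (topK [c0acc1, c0acc2, c0acc3, c0acc5, c0acc7, c0acc8]) c0acc0.K && Nat.beq (c0acc0.Pt 0) (c0atl0.Pt 0) && Nat.beq (ltAll 2058 []) 0 && kChk c0ace_P c0ax_P c0acc0.K 1 H16.PHe.B []) = true := by decide +kernel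
theorem c0ac_c : chainCard [c0acc0, c0acc1, c0acc2, c0acc3, c0acc5, c0acc7, c0acc8] = 21504 ∧ topK [c0acc0, c0acc1, c0acc2, c0acc3, c0acc5, c0acc7, c0acc8] = 10 := by decide +kernel
theorem c0w0_lt : H16.allL (ltAll 7) c0w0_W = true := by decide +kernel
theorem c0y0x_lt : H16.allL (ltAll 7) c0y0x_W = true := by decide +kernel
theorem c0y0x_m_a : allZ2 (matEnt (wdsP H16.PHe.P c0y0x_W) c0y0x_P) (nat_lit 1) (nat_lit 2058) = true := by decide +kernel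
theorem c0y0th_lt : H16.allL (ltAll 7) c0y0th_W = true := by decide +kernel
theorem c0y0th_m_0_0 : allZ (matEnt (wdsP H16.PHe.P c0y0th_W) c0y0th_P (nat_lit 0)) (nat_lit 0) (nat_lit 1856) = true := by decide +kernel
theorem c0y0th_m_0_1 : allZ (matEnt (wdsP H16.PHe.P c0y0th_W) c0y0th_P (nat_lit 0)) (nat_lit 1856) (nat_lit 202) = true := by decide +kernel
theorem c0y0th_m_1_0 : allZ (matEnt (wdsP H16.PHe.P c0y0th_W) c0y0th_P (nat_lit 1)) (nat_lit 0) (nat_lit 2058) = true := by decide +kernel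
theorem c0y0th_m_2_0 : allZ (matEnt (wdsP H16.PHe.P c0y0th_W) c0y0th_P (nat_lit 2)) (nat_lit 0) (nat_lit 2058) = true := by decide +kernel
theorem c0y0th_m_3_0 : allZ (matEnt (wdsP H16.PHe.P c0y0th_W) c0y0th_P (nat_lit 3)) (nat_lit 0) (nat_lit 2058) = true := by decide +kernel
theorem c0y0th_m_4_0 : allZ (matEnt (wdsP H16.PHe.P c0y0th_W) c0y0th_P (nat_lit 4)) (nat_lit 0) (nat_lit 2058) = true := by decide +kernel
theorem c0y0th_m_5_0 : allZ (matEnt (wdsP H16.PHe.P c0y0th_W) c0y0th_P (nat_lit 5)) (nat_lit 0) (nat_lit 2058) = true := by decide +kernel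
theorem c0y0th_m_6_0 : allZ (matEnt (wdsP H16.PHe.P c0y0th_W) c0y0th_P (nat_lit 6)) (nat_lit 0) (nat_lit 2058) = true := by decide +kernel
theorem c0y0th_m_7_0 : allZ (matEnt (wdsP H16.PHe.P c0y0th_W) c0y0th_P (nat_lit 7)) (nat_lit 0) (nat_lit 2058) = true := by decide +kernel
theorem c0y0th_m_8_0 : allZ (matEnt (wdsP H16.PHe.P c0y0th_W) c0y0th_P (nat_lit 8)) (nat_lit 0) (nat_lit 2058) = true := by decide +kernel
theorem c0y0th_m_9_0 : allZ (matEnt (wdsP H16.PHe.P c0y0th_W) c0y0th_P (nat_lit 9)) (nat_lit 0) (nat_lit 2058) = true := by decide +kernel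
theorem c0y0th_m_10_0 : allZ (matEnt (wdsP H16.PHe.P c0y0th_W) c0y0th_P (nat_lit 10)) (nat_lit 0) (nat_lit 2058) = true := by decide +kernel
theorem c0y0th_m_11_0 : allZ (matEnt (wdsP H16.PHe.P c0y0th_W) c0y0th_P (nat_lit 11)) (nat_lit 0) (nat_lit 2058) = true := by decide +kernel
theorem c0y0th_m_12_0 : allZ (matEnt (wdsP H16.PHe.P c0y0th_W) c0y0th_P (nat_lit 12)) (nat_lit 0) (nat_lit 2058) = true := by decide +kernel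
theorem c0y0th_m_13_0 : allZ (matEnt (wdsP H16.PHe.P c0y0th_W) c0y0th_P (nat_lit 13)) (nat_lit 0) (nat_lit 2058) = true := by decide +kernel
theorem c0y0th_m_14_0 : allZ (matEnt (wdsP H16.PHe.P c0y0th_W) c0y0th_P (nat_lit 14)) (nat_lit 0) (nat_lit 2058) = true := by decide +kernel
theorem c0y0th_m_15_0 : allZ (matEnt (wdsP H16.PHe.P c0y0th_W) c0y0th_P (nat_lit 15)) (nat_lit 0) (nat_lit 2058) = true := by decide +kernel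
theorem c0y0tl0_e_0 : allZ (dent c0y0tl0 c0y0th_P (nat_lit 2058)) (nat_lit 0) (nat_lit 2057) = true := by decide +kernel
theorem c0y0tl0_h : 0 < c0y0tl0.n ∧ 0 < c0y0tl0.K ∧ c0y0tl0.Pt 0 < 2058 ∧ c0y0tl0.Q (c0y0tl0.Pt 0) = 0 := by decide +kernel
theorem c0y0tl1_e_0 : allZ (dent c0y0tl1 c0y0th_P (nat_lit 2058)) (nat_lit 0) (nat_lit 135) = true := by decide +kernel
theorem c0y0tl1_h : 0 < c0y0tl1.n ∧ 0 < c0y0tl1.K ∧ c0y0tl1.Pt 0 < 2058 ∧ c0y0tl1.Q (c0y0tl1.Pt 0) = 0 := by decide +kernel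
theorem c0y0tl2_e_0 : allZ (dent c0y0tl2 c0y0th_P (nat_lit 2058)) (nat_lit 0) (nat_lit 99) = true := by decide +kernel
theorem c0y0tl2_h : 0 < c0y0tl2.n ∧ 0 < c0y0tl2.K ∧ c0y0tl2.Pt 0 < 2058 ∧ c0y0tl2.Q (c0y0tl2.Pt 0) = 0 := by decide +kernel
theorem c0y0tl3_e_0 : allZ (dent c0y0tl3 c0y0th_P (nat_lit 2058)) (nat_lit 0) (nat_lit 5) = true := by decide +kernel
theorem c0y0tl3_h : 0 < c0y0tl3.n ∧ 0 < c0y0tl3.K ∧ c0y0tl3.Pt 0 < 2058 ∧ c0y0tl3.Q (c0y0tl3.Pt 0) = 0 := by decide +kernel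
theorem c0y0tl4_e_0 : allZ (dent c0y0tl4 c0y0th_P (nat_lit 2058)) (nat_lit 0) (nat_lit 5) = true := by decide +kernel
theorem c0y0tl4_h : 0 < c0y0tl4.n ∧ 0 < c0y0tl4.K ∧ c0y0tl4.Pt 0 < 2058 ∧ c0y0tl4.Q (c0y0tl4.Pt 0) = 0 := by decide +kernel
theorem c0y0tl5_e_0 : allZ (dent c0y0tl5 c0y0th_P (nat_lit 2058)) (nat_lit 0) (nat_lit 1) = true := by decide +kernel
theorem c0y0tl5_h : 0 < c0y0tl5.n ∧ 0 < c0y0tl5.K ∧ c0y0tl5.Pt 0 < 2058 ∧ c0y0tl5.Q (c0y0tl5.Pt 0) = 0 := by decide +kernel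
theorem c0y0tl6_e_0 : allZ (dent c0y0tl6 c0y0th_P (nat_lit 2058)) (nat_lit 0) (nat_lit 1) = true := by decide +kernel
theorem c0y0tl6_h : 0 < c0y0tl6.n ∧ 0 < c0y0tl6.K ∧ c0y0tl6.Pt 0 < 2058 ∧ c0y0tl6.Q (c0y0tl6.Pt 0) = 0 := by decide +kernel
theorem c0y0t_f6 : (Nat.ble c0y0tl6.K 16 && Nat.ble (topK []) c0y0tl6.K && fixLetters c0y0th_P (topK []) (c0y0tl6.Pt 0)) = true := by decide +kernel
theorem c0y0t_f5 : (Nat.ble c0y0tl5.K 16 && Nat.ble (topK [c0y0tl6]) c0y0tl5.K && fixLetters c0y0th_P (topK [c0y0tl6]) (c0y0tl5.Pt 0)) = true := by decide +kernel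
theorem c0y0t_f4 : (Nat.ble c0y0tl4.K 16 && Nat.ble (topK [c0y0tl5, c0y0tl6]) c0y0tl4.K && fixLetters c0y0th_P (topK [c0y0tl5, c0y0tl6]) (c0y0tl4.Pt 0)) = true := by decide +kernel
theorem c0y0t_f3 : (Nat.ble c0y0tl3.K 16 && Nat.ble (topK [c0y0tl4, c0y0tl5, c0y0tl6]) c0y0tl3.K && fixLetters c0y0th_P (topK [c0y0tl4, c0y0tl5, c0y0tl6]) (c0y0tl3.Pt 0)) = true := by decide +kernel
theorem c0y0t_f2 : (Nat.ble c0y0tl2.K 16 && Nat.ble (topK [c0y0tl3, c0y0tl4, c0y0tl5, c0y0tl6]) c0y0tl2.K && fixLetters c0y0th_P (topK [c0y0tl3, c0y0tl4, c0y0tl5, c0y0tl6]) (c0y0tl2.Pt 0)) = true := by decide +kernel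
theorem c0y0t_f1 : (Nat.ble c0y0tl1.K 16 && Nat.ble (topK [c0y0tl2, c0y0tl3, c0y0tl4, c0y0tl5, c0y0tl6]) c0y0tl1.K && fixLetters c0y0th_P (topK [c0y0tl2, c0y0tl3, c0y0tl4, c0y0tl5, c0y0tl6]) (c0y0tl1.Pt 0)) = true := by decide +kernel
theorem c0y0t_f0 : (Nat.ble c0y0tl0.K 16 && Nat.ble (topK [c0y0tl1, c0y0tl2, c0y0tl3, c0y0tl4, c0y0tl5, c0y0tl6]) c0y0tl0.K && fixLetters c0y0th_P (topK [c0y0tl1, c0y0tl2, c0y0tl3, c0y0tl4, c0y0tl5, c0y0tl6]) (c0y0tl0.Pt 0)) = true := by decide +kernel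
theorem c0y0t_c : chainCard [c0y0tl0, c0y0tl1, c0y0tl2, c0y0tl3, c0y0tl4, c0y0tl5, c0y0tl6] = 4030387200 := by decide +kernel
theorem c0y0ce_lt : H16.allL (ltAll 7) c0y0ce_W = true := by decide +kernel
theorem c0y0ce_m_0_0 : allZ (matEnt (wdsP H16.PHe.P c0y0ce_W) c0y0ce_P (nat_lit 0)) (nat_lit 0) (nat_lit 2058) = true := by decide +kernel
theorem c0y0ce_m_1_0 : allZ (matEnt (wdsP H16.PHe.P c0y0ce_W) c0y0ce_P (nat_lit 1)) (nat_lit 0) (nat_lit 2058) = true := by decide +kernel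
theorem c0y0cc6_e_0 : allZ (dent c0y0cc6 c0y0ce_P (nat_lit 2058)) (nat_lit 0) (nat_lit 1) = true := by decide +kernel
theorem c0y0cc6_h : 0 < c0y0cc6.n ∧ 0 < c0y0cc6.K ∧ c0y0cc6.Pt 0 < 2058 ∧ c0y0cc6.Q (c0y0cc6.Pt 0) = 0 := by decide +kernel
theorem c0y0tn0_0 : (Nat.ble c0y0tl6.K 16 && Nat.beq (ltAll 2058 [c0y0tl5.Pt 0, c0y0tl4.Pt 0, c0y0tl3.Pt 0, c0y0tl2.Pt 0, c0y0tl1.Pt 0, c0y0tl0.Pt 0]) 0 && kChk c0y0ce_P c0y0x_P c0y0tn0.Kn 1 H16.PHe.B [c0y0tl5.Pt 0, c0y0tl4.Pt 0, c0y0tl3.Pt 0, c0y0tl2.Pt 0, c0y0tl1.Pt 0, c0y0tl0.Pt 0] && H16.allL (ltAll 1) c0y0tn0.pre && planOK c0y0th_P c0y0x_P 1 (c0y0tl6.Pt 0) c0y0tn0.plan [c0y0tl6]) = true := by decide +kernel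
theorem c0y0tn0_1_0 : allZ (c0y0tn0.ent H16.PHe.P c0y0th_P c0y0x_P c0y0x_P c0y0ce_P (nat_lit 7) (nat_lit 1) H16.PHe.B c0y0tl6 [] (memO c0y0cc6)) (nat_lit 0) (nat_lit 2) = true := by decide +kernel
theorem c0y0c_f6 : (Nat.ble c0y0cc6.K 2 && Nat.ble (topK []) c0y0cc6.K && Nat.beq (c0y0cc6.Pt 0) (c0y0tl6.Pt 0) && Nat.beq (ltAll 2058 [c0y0tl5.Pt 0, c0y0tl4.Pt 0, c0y0tl3.Pt 0, c0y0tl2.Pt 0, c0y0tl1.Pt 0, c0y0tl0.Pt 0]) 0 && kChk c0y0ce_P c0y0x_P c0y0cc6.K 1 H16.PHe.B [c0y0tl5.Pt 0, c0y0tl4.Pt 0, c0y0tl3.Pt 0, c0y0tl2.Pt 0, c0y0tl1.Pt 0, c0y0tl0.Pt 0]) = true := by decide +kernel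
theorem c0y0c_f5 : (Nat.ble c0y0tl5.K 16 && Nat.blt (nat_lit 12) 2058 && fixLetters c0y0th_P c0y0tl5.K (nat_lit 12) && Nat.beq (ltAll 1 [nat_lit 0, nat_lit 0, nat_lit 0, nat_lit 0, nat_lit 0]) 0 && Nat.beq (apW c0y0x_P [nat_lit 0, nat_lit 0, nat_lit 0, nat_lit 0, nat_lit 0] (nat_lit 12)) (c0y0tl5.Pt 0)) = true := by decide +kernel
theorem c0y0c_f4 : (Nat.ble c0y0tl4.K 16 && Nat.blt (nat_lit 12) 2058 && fixLetters c0y0th_P c0y0tl4.K (nat_lit 12) && Nat.beq (ltAll 1 [nat_lit 0, nat_lit 0, nat_lit 0, nat_lit 0]) 0 && Nat.beq (apW c0y0x_P [nat_lit 0, nat_lit 0, nat_lit 0, nat_lit 0] (nat_lit 12)) (c0y0tl4.Pt 0)) = true := by decide +kernel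
theorem c0y0c_f3 : (Nat.ble c0y0tl3.K 16 && Nat.blt (nat_lit 12) 2058 && fixLetters c0y0th_P c0y0tl3.K (nat_lit 12) && Nat.beq (ltAll 1 [nat_lit 0, nat_lit 0, nat_lit 0]) 0 && Nat.beq (apW c0y0x_P [nat_lit 0, nat_lit 0, nat_lit 0] (nat_lit 12)) (c0y0tl3.Pt 0)) = true := by decide +kernel
theorem c0y0c_f2 : (Nat.ble c0y0tl2.K 16 && Nat.blt (nat_lit 12) 2058 && fixLetters c0y0th_P c0y0tl2.K (nat_lit 12) && Nat.beq (ltAll 1 [nat_lit 0, nat_lit 0]) 0 && Nat.beq (apW c0y0x_P [nat_lit 0, nat_lit 0] (nat_lit 12)) (c0y0tl2.Pt 0)) = true := by decide +kernel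
theorem c0y0c_f1 : (Nat.ble c0y0tl1.K 16 && Nat.blt (nat_lit 12) 2058 && fixLetters c0y0th_P c0y0tl1.K (nat_lit 12) && Nat.beq (ltAll 1 [nat_lit 0]) 0 && Nat.beq (apW c0y0x_P [nat_lit 0] (nat_lit 12)) (c0y0tl1.Pt 0)) = true := by decide +kernel
theorem c0y0cc0_e_0 : allZ (dent c0y0cc0 c0y0ce_P (nat_lit 2058)) (nat_lit 0) (nat_lit 6) = true := by decide +kernel
theorem c0y0cc0_h : 0 < c0y0cc0.n ∧ 0 < c0y0cc0.K ∧ c0y0cc0.Pt 0 < 2058 ∧ c0y0cc0.Q (c0y0cc0.Pt 0) = 0 := by decide +kernel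
theorem c0y0tn1_0 : (Nat.ble c0y0tl0.K 16 && Nat.beq (ltAll 2058 []) 0 && kChk c0y0ce_P c0y0x_P c0y0tn1.Kn 1 H16.PHe.B [] && H16.allL (ltAll 1) c0y0tn1.pre && planOK c0y0th_P c0y0x_P 1 (c0y0tl0.Pt 0) c0y0tn1.plan [c0y0tl0, c0y0tl1, c0y0tl2, c0y0tl3, c0y0tl4, c0y0tl5, c0y0tl6]) = true := by decide +kernel
theorem c0y0tn1_1_0 : allZ (c0y0tn1.ent H16.PHe.P c0y0th_P c0y0x_P c0y0x_P c0y0ce_P (nat_lit 7) (nat_lit 1) H16.PHe.B c0y0tl0 [c0y0tl1, c0y0tl2, c0y0tl3, c0y0tl4, c0y0tl5, c0y0tl6] (memO c0y0cc0)) (nat_lit 0) (nat_lit 2058) = true := by decide +kernel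
theorem c0y0c_f0 : (Nat.ble c0y0cc0.K 2 && Nat.ble (topK [c0y0cc6]) c0y0cc0.K && Nat.beq (c0y0cc0.Pt 0) (c0y0tl0.Pt 0) && Nat.beq (ltAll 2058 []) 0 && kChk c0y0ce_P c0y0x_P c0y0cc0.K 1 H16.PHe.B []) = true := by decide +kernel
theorem c0y0c_c : chainCard [c0y0cc0, c0y0cc6] = 14 ∧ topK [c0y0cc0, c0y0cc6] = 2 := by decide +kernel
theorem c0w0_k : eqL c0w0_P 2 H16.PHe.B (List.replicate 7 1) [0] = 0 := by decide +kernel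
theorem c0w0p_k : fixL c0w0_P 2 H16.PHe.B (List.replicate 2 0) = 0 := by decide +kernel
theorem c0w0n_k : 0 < 2058 ∧ ltAll 2 (List.replicate 2 1) = 0 ∧ ltAll 2 [] = 0 ∧ apW c0w0_P (List.replicate 2 1) 0 ≠ apW c0w0_P [] 0 := by decide +kernel
theorem c1ax_lt : H16.allL (ltAll 7) c1ax_W = true := by decide +kernel
theorem c1ax_m_a : allZ2 (matEnt (wdsP H16.PHe.P c1ax_W) c1ax_P) (nat_lit 1) (nat_lit 2058) = true := by decide +kernel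
theorem c1ath_lt : H16.allL (ltAll 7) c1ath_W = true := by decide +kernel
theorem c1ath_m_0_0 : allZ (matEnt (wdsP H16.PHe.P c1ath_W) c1ath_P (nat_lit 0)) (nat_lit 0) (nat_lit 2058) = true := by decide +kernel
theorem c1ath_m_1_0 : allZ (matEnt (wdsP H16.PHe.P c1ath_W) c1ath_P (nat_lit 1)) (nat_lit 0) (nat_lit 2058) = true := by decide +kernel
theorem c1ath_m_2_0 : allZ (matEnt (wdsP H16.PHe.P c1ath_W) c1ath_P (nat_lit 2)) (nat_lit 0) (nat_lit 2058) = true := by decide +kernel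
theorem c1ath_m_3_0 : allZ (matEnt (wdsP H16.PHe.P c1ath_W) c1ath_P (nat_lit 3)) (nat_lit 0) (nat_lit 2058) = true := by decide +kernel
theorem c1ath_m_4_0 : allZ (matEnt (wdsP H16.PHe.P c1ath_W) c1ath_P (nat_lit 4)) (nat_lit 0) (nat_lit 2058) = true := by decide +kernel
theorem c1ath_m_5_0 : allZ (matEnt (wdsP H16.PHe.P c1ath_W) c1ath_P (nat_lit 5)) (nat_lit 0) (nat_lit 2058) = true := by decide +kernel
theorem c1ath_m_6_0 : allZ (matEnt (wdsP H16.PHe.P c1ath_W) c1ath_P (nat_lit 6)) (nat_lit 0) (nat_lit 2058) = true := by decide +kernel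
theorem c1ath_m_7_0 : allZ (matEnt (wdsP H16.PHe.P c1ath_W) c1ath_P (nat_lit 7)) (nat_lit 0) (nat_lit 2058) = true := by decide +kernel
theorem c1ath_m_8_0 : allZ (matEnt (wdsP H16.PHe.P c1ath_W) c1ath_P (nat_lit 8)) (nat_lit 0) (nat_lit 2058) = true := by decide +kernel
theorem c1ath_m_9_0 : allZ (matEnt (wdsP H16.PHe.P c1ath_W) c1ath_P (nat_lit 9)) (nat_lit 0) (nat_lit 2058) = true := by decide +kernel
theorem c1ath_m_10_0 : allZ (matEnt (wdsP H16.PHe.P c1ath_W) c1ath_P (nat_lit 10)) (nat_lit 0) (nat_lit 2058) = true := by decide +kernel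
theorem c1ath_m_11_0 : allZ (matEnt (wdsP H16.PHe.P c1ath_W) c1ath_P (nat_lit 11)) (nat_lit 0) (nat_lit 2058) = true := by decide +kernel
theorem c1ath_m_12_0 : allZ (matEnt (wdsP H16.PHe.P c1ath_W) c1ath_P (nat_lit 12)) (nat_lit 0) (nat_lit 2058) = true := by decide +kernel
theorem c1ath_m_13_0 : allZ (matEnt (wdsP H16.PHe.P c1ath_W) c1ath_P (nat_lit 13)) (nat_lit 0) (nat_lit 2058) = true := by decide +kernel
theorem c1ath_m_14_0 : allZ (matEnt (wdsP H16.PHe.P c1ath_W) c1ath_P (nat_lit 14)) (nat_lit 0) (nat_lit 2058) = true := by decide +kernel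
theorem c1atl0_e_0 : allZ (dent c1atl0 c1ath_P (nat_lit 2058)) (nat_lit 0) (nat_lit 2057) = true := by decide +kernel
theorem c1atl0_h : 0 < c1atl0.n ∧ 0 < c1atl0.K ∧ c1atl0.Pt 0 < 2058 ∧ c1atl0.Q (c1atl0.Pt 0) = 0 := by decide +kernel
theorem c1atl1_e_0 : allZ (dent c1atl1 c1ath_P (nat_lit 2058)) (nat_lit 0) (nat_lit 135) = true := by decide +kernel
theorem c1atl1_h : 0 < c1atl1.n ∧ 0 < c1atl1.K ∧ c1atl1.Pt 0 < 2058 ∧ c1atl1.Q (c1atl1.Pt 0) = 0 := by decide +kernel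
theorem c1atl2_e_0 : allZ (dent c1atl2 c1ath_P (nat_lit 2058)) (nat_lit 0) (nat_lit 35) = true := by decide +kernel
theorem c1atl2_h : 0 < c1atl2.n ∧ 0 < c1atl2.K ∧ c1atl2.Pt 0 < 2058 ∧ c1atl2.Q (c1atl2.Pt 0) = 0 := by decide +kernel
theorem c1atl3_e_0 : allZ (dent c1atl3 c1ath_P (nat_lit 2058)) (nat_lit 0) (nat_lit 9) = true := by decide +kernel
theorem c1atl3_h : 0 < c1atl3.n ∧ 0 < c1atl3.K ∧ c1atl3.Pt 0 < 2058 ∧ c1atl3.Q (c1atl3.Pt 0) = 0 := by decide +kernel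
theorem c1atl4_e_0 : allZ (dent c1atl4 c1ath_P (nat_lit 2058)) (nat_lit 0) (nat_lit 3) = true := by decide +kernel
theorem c1atl4_h : 0 < c1atl4.n ∧ 0 < c1atl4.K ∧ c1atl4.Pt 0 < 2058 ∧ c1atl4.Q (c1atl4.Pt 0) = 0 := by decide +kernel
theorem c1atl5_e_0 : allZ (dent c1atl5 c1ath_P (nat_lit 2058)) (nat_lit 0) (nat_lit 4) = true := by decide +kernel
theorem c1atl5_h : 0 < c1atl5.n ∧ 0 < c1atl5.K ∧ c1atl5.Pt 0 < 2058 ∧ c1atl5.Q (c1atl5.Pt 0) = 0 := by decide +kernel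
theorem c1atl6_e_0 : allZ (dent c1atl6 c1ath_P (nat_lit 2058)) (nat_lit 0) (nat_lit 1) = true := by decide +kernel
theorem c1atl6_h : 0 < c1atl6.n ∧ 0 < c1atl6.K ∧ c1atl6.Pt 0 < 2058 ∧ c1atl6.Q (c1atl6.Pt 0) = 0 := by decide +kernel
theorem c1at_f6 : (Nat.ble c1atl6.K 15 && Nat.ble (topK []) c1atl6.K && fixLetters c1ath_P (topK []) (c1atl6.Pt 0)) = true := by decide +kernel
theorem c1at_f5 : (Nat.ble c1atl5.K 15 && Nat.ble (topK [c1atl6]) c1atl5.K && fixLetters c1ath_P (topK [c1atl6]) (c1atl5.Pt 0)) = true := by decide +kernel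
theorem c1at_f4 : (Nat.ble c1atl4.K 15 && Nat.ble (topK [c1atl5, c1atl6]) c1atl4.K && fixLetters c1ath_P (topK [c1atl5, c1atl6]) (c1atl4.Pt 0)) = true := by decide +kernel
theorem c1at_f3 : (Nat.ble c1atl3.K 15 && Nat.ble (topK [c1atl4, c1atl5, c1atl6]) c1atl3.K && fixLetters c1ath_P (topK [c1atl4, c1atl5, c1atl6]) (c1atl3.Pt 0)) = true := by decide +kernel
theorem c1at_f2 : (Nat.ble c1atl2.K 15 && Nat.ble (topK [c1atl3, c1atl4, c1atl5, c1atl6]) c1atl2.K && fixLetters c1ath_P (topK [c1atl3, c1atl4, c1atl5, c1atl6]) (c1atl2.Pt 0)) = true := by decide +kernel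
theorem c1at_f1 : (Nat.ble c1atl1.K 15 && Nat.ble (topK [c1atl2, c1atl3, c1atl4, c1atl5, c1atl6]) c1atl1.K && fixLetters c1ath_P (topK [c1atl2, c1atl3, c1atl4, c1atl5, c1atl6]) (c1atl1.Pt 0)) = true := by decide +kernel
theorem c1at_f0 : (Nat.ble c1atl0.K 15 && Nat.ble (topK [c1atl1, c1atl2, c1atl3, c1atl4, c1atl5, c1atl6]) c1atl0.K && fixLetters c1ath_P (topK [c1atl1, c1atl2, c1atl3, c1atl4, c1atl5, c1atl6]) (c1atl0.Pt 0)) = true := by decide +kernel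
theorem c1at_c : chainCard [c1atl0, c1atl1, c1atl2, c1atl3, c1atl4, c1atl5, c1atl6] = 4030387200 := by decide +kernel
theorem c1ace_lt : H16.allL (ltAll 7) c1ace_W = true := by decide +kernel
theorem c1ace_m_0_0 : allZ (matEnt (wdsP H16.PHe.P c1ace_W) c1ace_P (nat_lit 0)) (nat_lit 0) (nat_lit 2058) = true := by decide +kernel
theorem c1ace_m_1_0 : allZ (matEnt (wdsP H16.PHe.P c1ace_W) c1ace_P (nat_lit 1)) (nat_lit 0) (nat_lit 2058) = true := by decide +kernel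
theorem c1ace_m_2_0 : allZ (matEnt (wdsP H16.PHe.P c1ace_W) c1ace_P (nat_lit 2)) (nat_lit 0) (nat_lit 2058) = true := by decide +kernel
theorem c1ace_m_3_0 : allZ (matEnt (wdsP H16.PHe.P c1ace_W) c1ace_P (nat_lit 3)) (nat_lit 0) (nat_lit 2058) = true := by decide +kernel
theorem c1ace_m_4_0 : allZ (matEnt (wdsP H16.PHe.P c1ace_W) c1ace_P (nat_lit 4)) (nat_lit 0) (nat_lit 2058) = true := by decide +kernel
theorem c1ace_m_5_0 : allZ (matEnt (wdsP H16.PHe.P c1ace_W) c1ace_P (nat_lit 5)) (nat_lit 0) (nat_lit 2058) = true := by decide +kernel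
theorem c1ace_m_6_0 : allZ (matEnt (wdsP H16.PHe.P c1ace_W) c1ace_P (nat_lit 6)) (nat_lit 0) (nat_lit 2058) = true := by decide +kernel
theorem c1acc6_e_0 : allZ (dent c1acc6 c1ace_P (nat_lit 2058)) (nat_lit 0) (nat_lit 1) = true := by decide +kernel
theorem c1acc6_h : 0 < c1acc6.n ∧ 0 < c1acc6.K ∧ c1acc6.Pt 0 < 2058 ∧ c1acc6.Q (c1acc6.Pt 0) = 0 := by decide +kernel
theorem c1atn0_0 : (Nat.ble c1atl6.K 15 && Nat.beq (ltAll 2058 [c1atl5.Pt 0, c1atl4.Pt 0, c1atl3.Pt 0, c1atl2.Pt 0, c1atl1.Pt 0, c1atl0.Pt 0]) 0 && kChk c1ace_P c1ax_P c1atn0.Kn 1 H16.PHe.B [c1atl5.Pt 0, c1atl4.Pt 0, c1atl3.Pt 0, c1atl2.Pt 0, c1atl1.Pt 0, c1atl0.Pt 0] && H16.allL (ltAll 1) c1atn0.pre && planOK c1ath_P c1ax_P 1 (c1atl6.Pt 0) c1atn0.plan [c1atl6]) = true := by decide +kernel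
theorem c1atn0_1_0 : allZ (c1atn0.ent H16.PHe.P c1ath_P c1ax_P c1ax_P c1ace_P (nat_lit 7) (nat_lit 1) H16.PHe.B c1atl6 [] (memO c1acc6)) (nat_lit 0) (nat_lit 2) = true := by decide +kernel
theorem c1ac_f6 : (Nat.ble c1acc6.K 7 && Nat.ble (topK []) c1acc6.K && Nat.beq (c1acc6.Pt 0) (c1atl6.Pt 0) && Nat.beq (ltAll 2058 [c1atl5.Pt 0, c1atl4.Pt 0, c1atl3.Pt 0, c1atl2.Pt 0, c1atl1.Pt 0, c1atl0.Pt 0]) 0 && kChk c1ace_P c1ax_P c1acc6.K 1 H16.PHe.B [c1atl5.Pt 0, c1atl4.Pt 0, c1atl3.Pt 0, c1atl2.Pt 0, c1atl1.Pt 0, c1atl0.Pt 0]) = true := by decide +kernel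
theorem c1acc5_e_0 : allZ (dent c1acc5 c1ace_P (nat_lit 2058)) (nat_lit 0) (nat_lit 4) = true := by decide +kernel
theorem c1acc5_h : 0 < c1acc5.n ∧ 0 < c1acc5.K ∧ c1acc5.Pt 0 < 2058 ∧ c1acc5.Q (c1acc5.Pt 0) = 0 := by decide +kernel
theorem c1atn1_0 : (Nat.ble c1atl5.K 15 && Nat.beq (ltAll 2058 [c1atl4.Pt 0, c1atl3.Pt 0, c1atl2.Pt 0, c1atl1.Pt 0, c1atl0.Pt 0]) 0 && kChk c1ace_P c1ax_P c1atn1.Kn 1 H16.PHe.B [c1atl4.Pt 0, c1atl3.Pt 0, c1atl2.Pt 0, c1atl1.Pt 0, c1atl0.Pt 0] && H16.allL (ltAll 1) c1atn1.pre && planOK c1ath_P c1ax_P 1 (c1atl5.Pt 0) c1atn1.plan [c1atl5, c1atl6]) = true := by decide +kernel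
theorem c1atn1_1_0 : allZ (c1atn1.ent H16.PHe.P c1ath_P c1ax_P c1ax_P c1ace_P (nat_lit 7) (nat_lit 1) H16.PHe.B c1atl5 [c1atl6] (memO c1acc5)) (nat_lit 0) (nat_lit 5) = true := by decide +kernel
theorem c1ac_f5 : (Nat.ble c1acc5.K 7 && Nat.ble (topK [c1acc6]) c1acc5.K && Nat.beq (c1acc5.Pt 0) (c1atl5.Pt 0) && Nat.beq (ltAll 2058 [c1atl4.Pt 0, c1atl3.Pt 0, c1atl2.Pt 0, c1atl1.Pt 0, c1atl0.Pt 0]) 0 && kChk c1ace_P c1ax_P c1acc5.K 1 H16.PHe.B [c1atl4.Pt 0, c1atl3.Pt 0, c1atl2.Pt 0, c1atl1.Pt 0, c1atl0.Pt 0]) = true := by decide +kernel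
theorem c1acc4_e_0 : allZ (dent c1acc4 c1ace_P (nat_lit 2058)) (nat_lit 0) (nat_lit 1) = true := by decide +kernel
theorem c1acc4_h : 0 < c1acc4.n ∧ 0 < c1acc4.K ∧ c1acc4.Pt 0 < 2058 ∧ c1acc4.Q (c1acc4.Pt 0) = 0 := by decide +kernel
theorem c1atn2_0 : (Nat.ble c1atl4.K 15 && Nat.beq (ltAll 2058 [c1atl3.Pt 0, c1atl2.Pt 0, c1atl1.Pt 0, c1atl0.Pt 0]) 0 && kChk c1ace_P c1ax_P c1atn2.Kn 1 H16.PHe.B [c1atl3.Pt 0, c1atl2.Pt 0, c1atl1.Pt 0, c1atl0.Pt 0] && H16.allL (ltAll 1) c1atn2.pre && planOK c1ath_P c1ax_P 1 (c1atl4.Pt 0) c1atn2.plan [c1atl4, c1atl5, c1atl6]) = true := by decide +kernel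
theorem c1atn2_1_0 : allZ (c1atn2.ent H16.PHe.P c1ath_P c1ax_P c1ax_P c1ace_P (nat_lit 7) (nat_lit 1) H16.PHe.B c1atl4 [c1atl5, c1atl6] (memO c1acc4)) (nat_lit 0) (nat_lit 4) = true := by decide +kernel
theorem c1ac_f4 : (Nat.ble c1acc4.K 7 && Nat.ble (topK [c1acc5, c1acc6]) c1acc4.K && Nat.beq (c1acc4.Pt 0) (c1atl4.Pt 0) && Nat.beq (ltAll 2058 [c1atl3.Pt 0, c1atl2.Pt 0, c1atl1.Pt 0, c1atl0.Pt 0]) 0 && kChk c1ace_P c1ax_P c1acc4.K 1 H16.PHe.B [c1atl3.Pt 0, c1atl2.Pt 0, c1atl1.Pt 0, c1atl0.Pt 0]) = true := by decide +kernel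
theorem c1ac_f3 : (Nat.ble c1atl3.K 15 && Nat.blt (nat_lit 43) 2058 && fixLetters c1ath_P c1atl3.K (nat_lit 43) && Nat.beq (ltAll 1 [nat_lit 0]) 0 && Nat.beq (apW c1ax_P [nat_lit 0] (nat_lit 43)) (c1atl3.Pt 0)) = true := by decide +kernel
theorem c1acc2_e_0 : allZ (dent c1acc2 c1ace_P (nat_lit 2058)) (nat_lit 0) (nat_lit 23) = true := by decide +kernel
theorem c1acc2_h : 0 < c1acc2.n ∧ 0 < c1acc2.K ∧ c1acc2.Pt 0 < 2058 ∧ c1acc2.Q (c1acc2.Pt 0) = 0 := by decide +kernel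
theorem c1atn3_0 : (Nat.ble c1atl2.K 15 && Nat.beq (ltAll 2058 [c1atl1.Pt 0, c1atl0.Pt 0]) 0 && kChk c1ace_P c1ax_P c1atn3.Kn 1 H16.PHe.B [c1atl1.Pt 0, c1atl0.Pt 0] && H16.allL (ltAll 1) c1atn3.pre && planOK c1ath_P c1ax_P 1 (c1atl2.Pt 0) c1atn3.plan [c1atl2, c1atl3, c1atl4, c1atl5, c1atl6]) = true := by decide +kernel
theorem c1atn3_1_0 : allZ (c1atn3.ent H16.PHe.P c1ath_P c1ax_P c1ax_P c1ace_P (nat_lit 7) (nat_lit 1) H16.PHe.B c1atl2 [c1atl3, c1atl4, c1atl5, c1atl6] (memO c1acc2)) (nat_lit 0) (nat_lit 36) = true := by decide +kernel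
theorem c1ac_f2 : (Nat.ble c1acc2.K 7 && Nat.ble (topK [c1acc4, c1acc5, c1acc6]) c1acc2.K && Nat.beq (c1acc2.Pt 0) (c1atl2.Pt 0) && Nat.beq (ltAll 2058 [c1atl1.Pt 0, c1atl0.Pt 0]) 0 && kChk c1ace_P c1ax_P c1acc2.K 1 H16.PHe.B [c1atl1.Pt 0, c1atl0.Pt 0]) = true := by decide +kernel
theorem c1acc1_e_0 : allZ (dent c1acc1 c1ace_P (nat_lit 2058)) (nat_lit 0) (nat_lit 15) = true := by decide +kernel
theorem c1acc1_h : 0 < c1acc1.n ∧ 0 < c1acc1.K ∧ c1acc1.Pt 0 < 2058 ∧ c1acc1.Q (c1acc1.Pt 0) = 0 := by decide +kernel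
theorem c1atn4_0 : (Nat.ble c1atl1.K 15 && Nat.beq (ltAll 2058 [c1atl0.Pt 0]) 0 && kChk c1ace_P c1ax_P c1atn4.Kn 1 H16.PHe.B [c1atl0.Pt 0] && H16.allL (ltAll 1) c1atn4.pre && planOK c1ath_P c1ax_P 1 (c1atl1.Pt 0) c1atn4.plan [c1atl1, c1atl2, c1atl3, c1atl4, c1atl5, c1atl6]) = true := by decide +kernel
theorem c1atn4_1_0 : allZ (c1atn4.ent H16.PHe.P c1ath_P c1ax_P c1ax_P c1ace_P (nat_lit 7) (nat_lit 1) H16.PHe.B c1atl1 [c1atl2, c1atl3, c1atl4, c1atl5, c1atl6] (memO c1acc1)) (nat_lit 0) (nat_lit 136) = true := by decide +kernel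
theorem c1ac_f1 : (Nat.ble c1acc1.K 7 && Nat.ble (topK [c1acc2, c1acc4, c1acc5, c1acc6]) c1acc1.K && Nat.beq (c1acc1.Pt 0) (c1atl1.Pt 0) && Nat.beq (ltAll 2058 [c1atl0.Pt 0]) 0 && kChk c1ace_P c1ax_P c1acc1.K 1 H16.PHe.B [c1atl0.Pt 0]) = true := by decide +kernel
theorem c1acc0_e_0 : allZ (dent c1acc0 c1ace_P (nat_lit 2058)) (nat_lit 0) (nat_lit 20) = true := by decide +kernel
theorem c1acc0_h : 0 < c1acc0.n ∧ 0 < c1acc0.K ∧ c1acc0.Pt 0 < 2058 ∧ c1acc0.Q (c1acc0.Pt 0) = 0 := by decide +kernel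
theorem c1atn5y671_lt : H16.allL (ltAll 7) c1atn5y671_W = true := by decide +kernel
theorem c1atr6k_lt : H16.allL (ltAll 7) c1atr6k_W = true := by decide +kernel
theorem c1atn6y552_lt : H16.allL (ltAll 7) c1atn6y552_W = true := by decide +kernel
theorem c1atr7k_lt : H16.allL (ltAll 7) c1atr7k_W = true := by decide +kernel
theorem c1atn7_0 : (Nat.ble c1atl2.K 15 && Nat.beq (ltAll 2058 [c1atl1.Pt 0, c1atl0.Pt 0]) 0 && kChk c1atr7k_P c1atn6y552_P c1atn7.Kn 1 H16.PHe.B [c1atl1.Pt 0, c1atl0.Pt 0] && H16.allL (ltAll 1) c1atn7.pre && planOK c1ath_P c1ax_P 1 (c1atl2.Pt 0) c1atn7.plan [c1atl2, c1atl3, c1atl4, c1atl5, c1atl6]) = true := by decide +kernel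
theorem c1atn7_1_0 : allZ (c1atn7.ent H16.PHe.P c1ath_P c1ax_P c1atn6y552_P c1atr7k_P (nat_lit 7) (nat_lit 1) H16.PHe.B c1atl2 [c1atl3, c1atl4, c1atl5, c1atl6] (fun _ => nat_lit 1)) (nat_lit 0) (nat_lit 36) = true := by decide +kernel
theorem c1atn6_0 : (Nat.ble c1atl1.K 15 && Nat.beq (ltAll 2058 [c1atl0.Pt 0]) 0 && kChk c1atr6k_P c1atn5y671_P c1atn6.Kn 1 H16.PHe.B [c1atl0.Pt 0] && H16.allL (ltAll 1) c1atn6.pre && planOK c1ath_P c1ax_P 1 (c1atl1.Pt 0) c1atn6.plan [c1atl1, c1atl2, c1atl3, c1atl4, c1atl5, c1atl6]) = true := by decide +kernel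
theorem c1atn6_1_0 : allZ (c1atn6.ent H16.PHe.P c1ath_P c1ax_P c1atn5y671_P c1atr6k_P (nat_lit 7) (nat_lit 1) H16.PHe.B c1atl1 [c1atl2, c1atl3, c1atl4, c1atl5, c1atl6] (fun _ => nat_lit 1)) (nat_lit 0) (nat_lit 136) = true := by decide +kernel
theorem c1atn5y258_lt : H16.allL (ltAll 7) c1atn5y258_W = true := by decide +kernel
theorem c1atr8k_lt : H16.allL (ltAll 7) c1atr8k_W = true := by decide +kernel
theorem c1atn8y882_lt : H16.allL (ltAll 7) c1atn8y882_W = true := by decide +kernel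
theorem c1atr9k_lt : H16.allL (ltAll 7) c1atr9k_W = true := by decide +kernel
theorem c1atn9_0 : (Nat.ble c1atl2.K 15 && Nat.beq (ltAll 2058 [c1atl1.Pt 0, c1atl0.Pt 0]) 0 && kChk c1atr9k_P c1atn8y882_P c1atn9.Kn 1 H16.PHe.B [c1atl1.Pt 0, c1atl0.Pt 0] && H16.allL (ltAll 1) c1atn9.pre && planOK c1ath_P c1ax_P 1 (c1atl2.Pt 0) c1atn9.plan [c1atl2, c1atl3, c1atl4, c1atl5, c1atl6]) = true := by decide +kernel
theorem c1atn9_1_0 : allZ (c1atn9.ent H16.PHe.P c1ath_P c1ax_P c1atn8y882_P c1atr9k_P (nat_lit 7) (nat_lit 1) H16.PHe.B c1atl2 [c1atl3, c1atl4, c1atl5, c1atl6] (fun _ => nat_lit 1)) (nat_lit 0) (nat_lit 36) = true := by decide +kernel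
theorem c1atn8y991_lt : H16.allL (ltAll 7) c1atn8y991_W = true := by decide +kernel
theorem c1atr10k_lt : H16.allL (ltAll 7) c1atr10k_W = true := by decide +kernel
theorem c1atn10_0 : (Nat.ble c1atl2.K 15 && Nat.beq (ltAll 2058 [c1atl1.Pt 0, c1atl0.Pt 0]) 0 && kChk c1atr10k_P c1atn8y991_P c1atn10.Kn 1 H16.PHe.B [c1atl1.Pt 0, c1atl0.Pt 0] && H16.allL (ltAll 1) c1atn10.pre && planOK c1ath_P c1ax_P 1 (c1atl2.Pt 0) c1atn10.plan [c1atl2, c1atl3, c1atl4, c1atl5, c1atl6]) = true := by decide +kernel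
theorem c1atn10_1_0 : allZ (c1atn10.ent H16.PHe.P c1ath_P c1ax_P c1atn8y991_P c1atr10k_P (nat_lit 7) (nat_lit 1) H16.PHe.B c1atl2 [c1atl3, c1atl4, c1atl5, c1atl6] (fun _ => nat_lit 1)) (nat_lit 0) (nat_lit 36) = true := by decide +kernel
theorem c1atn8_0 : (Nat.ble c1atl1.K 15 && Nat.beq (ltAll 2058 [c1atl0.Pt 0]) 0 && kChk c1atr8k_P c1atn5y258_P c1atn8.Kn 1 H16.PHe.B [c1atl0.Pt 0] && H16.allL (ltAll 1) c1atn8.pre && planOK c1ath_P c1ax_P 1 (c1atl1.Pt 0) c1atn8.plan [c1atl1, c1atl2, c1atl3, c1atl4, c1atl5, c1atl6]) = true := by decide +kernel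
theorem c1atn8_1_0 : allZ (c1atn8.ent H16.PHe.P c1ath_P c1ax_P c1atn5y258_P c1atr8k_P (nat_lit 7) (nat_lit 1) H16.PHe.B c1atl1 [c1atl2, c1atl3, c1atl4, c1atl5, c1atl6] (fun _ => nat_lit 1)) (nat_lit 0) (nat_lit 136) = true := by decide +kernel
theorem c1atn5_0 : (Nat.ble c1atl0.K 15 && Nat.beq (ltAll 2058 []) 0 && kChk c1ace_P c1ax_P c1atn5.Kn 1 H16.PHe.B [] && H16.allL (ltAll 1) c1atn5.pre && planOK c1ath_P c1ax_P 1 (c1atl0.Pt 0) c1atn5.plan [c1atl0, c1atl1, c1atl2, c1atl3, c1atl4, c1atl5, c1atl6]) = true := by decide +kernel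
theorem c1atn5_1_0 : allZ (c1atn5.ent H16.PHe.P c1ath_P c1ax_P c1ax_P c1ace_P (nat_lit 7) (nat_lit 1) H16.PHe.B c1atl0 [c1atl1, c1atl2, c1atl3, c1atl4, c1atl5, c1atl6] (memO c1acc0)) (nat_lit 0) (nat_lit 2058) = true := by decide +kernel
theorem c1ac_f0 : (Nat.ble c1acc0.K 7 && Nat.ble (topK [c1acc1, c1acc2, c1acc4, c1acc5, c1acc6]) c1acc0.K && Nat.beq (c1acc0.Pt 0) (c1atl0.Pt 0) && Nat.beq (ltAll 2058 []) 0 && kChk c1ace_P c1ax_P c1acc0.K 1 H16.PHe.B []) = true := by decide +kernel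
theorem c1ac_c : chainCard [c1acc0, c1acc1, c1acc2, c1acc4, c1acc5, c1acc6] = 161280 ∧ topK [c1acc0, c1acc1, c1acc2, c1acc4, c1acc5, c1acc6] = 7 := by decide +kernel
theorem c1w0_lt : H16.allL (ltAll 7) c1w0_W = true := by decide +kernel
theorem c1y0x_lt : H16.allL (ltAll 7) c1y0x_W = true := by decide +kernel
theorem c1y0x_m_a : allZ2 (matEnt (wdsP H16.PHe.P c1y0x_W) c1y0x_P) (nat_lit 1) (nat_lit 2058) = true := by decide +kernel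
theorem c1y0th_lt : H16.allL (ltAll 7) c1y0th_W = true := by decide +kernel
theorem c1y0th_m_0_0 : allZ (matEnt (wdsP H16.PHe.P c1y0th_W) c1y0th_P (nat_lit 0)) (nat_lit 0) (nat_lit 2058) = true := by decide +kernel

end H15.IC.He
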