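import Cfsg.Agent.H15.IC.He.D0

/-! Generated by tools/h15/ic/ic.py (kit tools/h0/tr). -/

set_option maxRecDepth 100000
set_option maxHeartbeats 0

namespace H15.IC.He
open H16 H0.TR
open scoped commutatorElement Pointwise

theorem c1y0th_m_1_0 : allZ (matEnt (wdsP H16.PHe.P c1y0th_W) c1y0th_P (nat_lit 1)) (nat_lit 0) (nat_lit 1984) = true := by decide +kernel
theorem c1y0th_m_1_1 : allZ (matEnt (wdsP H16.PHe.P c1y0th_W) c1y0th_P (nat_lit 1)) (nat_lit 1984) (nat_lit 74) = true := by decide +kernel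
theorem c1y0th_m_2_0 : allZ (matEnt (wdsP H16.PHe.P c1y0th_W) c1y0th_P (nat_lit 2)) (nat_lit 0) (nat_lit 2058) = true := by decide +kernel
theorem c1y0th_m_3_0 : allZ (matEnt (wdsP H16.PHe.P c1y0th_W) c1y0th_P (nat_lit 3)) (nat_lit 0) (nat_lit 2058) = true := by decide +kernel
theorem c1y0th_m_4_0 : allZ (matEnt (wdsP H16.PHe.P c1y0th_W) c1y0th_P (nat_lit 4)) (nat_lit 0) (nat_lit 2058) = true := by decide +kernel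
theorem c1y0th_m_5_0 : allZ (matEnt (wdsP H16.PHe.P c1y0th_W) c1y0th_P (nat_lit 5)) (nat_lit 0) (nat_lit 2058) = true := by decide +kernel
theorem c1y0th_m_6_0 : allZ (matEnt (wdsP H16.PHe.P c1y0th_W) c1y0th_P (nat_lit 6)) (nat_lit 0) (nat_lit 2058) = true := by decide +kernel
theorem c1y0th_m_7_0 : allZ (matEnt (wdsP H16.PHe.P c1y0th_W) c1y0th_P (nat_lit 7)) (nat_lit 0) (nat_lit 2058) = true := by decide +kernel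
theorem c1y0th_m_8_0 : allZ (matEnt (wdsP H16.PHe.P c1y0th_W) c1y0th_P (nat_lit 8)) (nat_lit 0) (nat_lit 2058) = true := by decide +kernel
theorem c1y0th_m_9_0 : allZ (matEnt (wdsP H16.PHe.P c1y0th_W) c1y0th_P (nat_lit 9)) (nat_lit 0) (nat_lit 2058) = true := by decide +kernel
theorem c1y0th_m_10_0 : allZ (matEnt (wdsP H16.PHe.P c1y0th_W) c1y0th_P (nat_lit 10)) (nat_lit 0) (nat_lit 2058) = true := by decide +kernel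
theorem c1y0th_m_11_0 : allZ (matEnt (wdsP H16.PHe.P c1y0th_W) c1y0th_P (nat_lit 11)) (nat_lit 0) (nat_lit 2058) = true := by decide +kernel
theorem c1y0th_m_12_0 : allZ (matEnt (wdsP H16.PHe.P c1y0th_W) c1y0th_P (nat_lit 12)) (nat_lit 0) (nat_lit 2058) = true := by decide +kernel
theorem c1y0th_m_13_0 : allZ (matEnt (wdsP H16.PHe.P c1y0th_W) c1y0th_P (nat_lit 13)) (nat_lit 0) (nat_lit 2058) = true := by decide +kernel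
theorem c1y0th_m_14_0 : allZ (matEnt (wdsP H16.PHe.P c1y0th_W) c1y0th_P (nat_lit 14)) (nat_lit 0) (nat_lit 2058) = true := by decide +kernel
theorem c1y0th_m_15_0 : allZ (matEnt (wdsP H16.PHe.P c1y0th_W) c1y0th_P (nat_lit 15)) (nat_lit 0) (nat_lit 2058) = true := by decide +kernel
theorem c1y0tl0_e_0 : allZ (dent c1y0tl0 c1y0th_P (nat_lit 2058)) (nat_lit 0) (nat_lit 2057) = true := by decide +kernel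
theorem c1y0tl0_h : 0 < c1y0tl0.n ∧ 0 < c1y0tl0.K ∧ c1y0tl0.Pt 0 < 2058 ∧ c1y0tl0.Q (c1y0tl0.Pt 0) = 0 := by decide +kernel
theorem c1y0tl1_e_0 : allZ (dent c1y0tl1 c1y0th_P (nat_lit 2058)) (nat_lit 0) (nat_lit 424) = true := by decide +kernel
theorem c1y0tl1_h : 0 < c1y0tl1.n ∧ 0 < c1y0tl1.K ∧ c1y0tl1.Pt 0 < 2058 ∧ c1y0tl1.Q (c1y0tl1.Pt 0) = 0 := by decide +kernel
theorem c1y0tl2_e_0 : allZ (dent c1y0tl2 c1y0th_P (nat_lit 2058)) (nat_lit 0) (nat_lit 63) = true := by decide +kernel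
theorem c1y0tl2_h : 0 < c1y0tl2.n ∧ 0 < c1y0tl2.K ∧ c1y0tl2.Pt 0 < 2058 ∧ c1y0tl2.Q (c1y0tl2.Pt 0) = 0 := by decide +kernel
theorem c1y0tl3_e_0 : allZ (dent c1y0tl3 c1y0th_P (nat_lit 2058)) (nat_lit 0) (nat_lit 2) = true := by decide +kernel
theorem c1y0tl3_h : 0 < c1y0tl3.n ∧ 0 < c1y0tl3.K ∧ c1y0tl3.Pt 0 < 2058 ∧ c1y0tl3.Q (c1y0tl3.Pt 0) = 0 := by decide +kernel
theorem c1y0tl4_e_0 : allZ (dent c1y0tl4 c1y0th_P (nat_lit 2058)) (nat_lit 0) (nat_lit 2) = true := by decide +kernel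
theorem c1y0tl4_h : 0 < c1y0tl4.n ∧ 0 < c1y0tl4.K ∧ c1y0tl4.Pt 0 < 2058 ∧ c1y0tl4.Q (c1y0tl4.Pt 0) = 0 := by decide +kernel
theorem c1y0tl5_e_0 : allZ (dent c1y0tl5 c1y0th_P (nat_lit 2058)) (nat_lit 0) (nat_lit 1) = true := by decide +kernel
theorem c1y0tl5_h : 0 < c1y0tl5.n ∧ 0 < c1y0tl5.K ∧ c1y0tl5.Pt 0 < 2058 ∧ c1y0tl5.Q (c1y0tl5.Pt 0) = 0 := by decide +kernel
theorem c1y0tl6_e_0 : allZ (dent c1y0tl6 c1y0th_P (nat_lit 2058)) (nat_lit 0) (nat_lit 1) = true := by decide +kernel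
theorem c1y0tl6_h : 0 < c1y0tl6.n ∧ 0 < c1y0tl6.K ∧ c1y0tl6.Pt 0 < 2058 ∧ c1y0tl6.Q (c1y0tl6.Pt 0) = 0 := by decide +kernel
theorem c1y0tl7_e_0 : allZ (dent c1y0tl7 c1y0th_P (nat_lit 2058)) (nat_lit 0) (nat_lit 1) = true := by decide +kernel
theorem c1y0tl7_h : 0 < c1y0tl7.n ∧ 0 < c1y0tl7.K ∧ c1y0tl7.Pt 0 < 2058 ∧ c1y0tl7.Q (c1y0tl7.Pt 0) = 0 := by decide +kernel
theorem c1y0t_f7 : (Nat.ble c1y0tl7.K 16 && Nat.ble (topK []) c1y0tl7.K && fixLetters c1y0th_P (topK []) (c1y0tl7.Pt 0)) = true := by decide +kernel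
theorem c1y0t_f6 : (Nat.ble c1y0tl6.K 16 && Nat.ble (topK [c1y0tl7]) c1y0tl6.K && fixLetters c1y0th_P (topK [c1y0tl7]) (c1y0tl6.Pt 0)) = true := by decide +kernel
theorem c1y0t_f5 : (Nat.ble c1y0tl5.K 16 && Nat.ble (topK [c1y0tl6, c1y0tl7]) c1y0tl5.K && fixLetters c1y0th_P (topK [c1y0tl6, c1y0tl7]) (c1y0tl5.Pt 0)) = true := by decide +kernel
theorem c1y0t_f4 : (Nat.ble c1y0tl4.K 16 && Nat.ble (topK [c1y0tl5, c1y0tl6, c1y0tl7]) c1y0tl4.K && fixLetters c1y0th_P (topK [c1y0tl5, c1y0tl6, c1y0tl7]) (c1y0tl4.Pt 0)) = true := by decide +kernel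
theorem c1y0t_f3 : (Nat.ble c1y0tl3.K 16 && Nat.ble (topK [c1y0tl4, c1y0tl5, c1y0tl6, c1y0tl7]) c1y0tl3.K && fixLetters c1y0th_P (topK [c1y0tl4, c1y0tl5, c1y0tl6, c1y0tl7]) (c1y0tl3.Pt 0)) = true := by decide +kernel
theorem c1y0t_f2 : (Nat.ble c1y0tl2.K 16 && Nat.ble (topK [c1y0tl3, c1y0tl4, c1y0tl5, c1y0tl6, c1y0tl7]) c1y0tl2.K && fixLetters c1y0th_P (topK [c1y0tl3, c1y0tl4, c1y0tl5, c1y0tl6, c1y0tl7]) (c1y0tl2.Pt 0)) = true := by decide +kernel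
theorem c1y0t_f1 : (Nat.ble c1y0tl1.K 16 && Nat.ble (topK [c1y0tl2, c1y0tl3, c1y0tl4, c1y0tl5, c1y0tl6, c1y0tl7]) c1y0tl1.K && fixLetters c1y0th_P (topK [c1y0tl2, c1y0tl3, c1y0tl4, c1y0tl5, c1y0tl6, c1y0tl7]) (c1y0tl1.Pt 0)) = true := by decide +kernel
theorem c1y0t_f0 : (Nat.ble c1y0tl0.K 16 && Nat.ble (topK [c1y0tl1, c1y0tl2, c1y0tl3, c1y0tl4, c1y0tl5, c1y0tl6, c1y0tl7]) c1y0tl0.K && fixLetters c1y0th_P (topK [c1y0tl1, c1y0tl2, c1y0tl3, c1y0tl4, c1y0tl5, c1y0tl6, c1y0tl7]) (c1y0tl0.Pt 0)) = true := by decide +kernel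
theorem c1y0t_c : chainCard [c1y0tl0, c1y0tl1, c1y0tl2, c1y0tl3, c1y0tl4, c1y0tl5, c1y0tl6, c1y0tl7] = 4030387200 := by decide +kernel
theorem c1y0ce_lt : H16.allL (ltAll 7) c1y0ce_W = true := by decide +kernel
theorem c1y0ce_m_0_0 : allZ (matEnt (wdsP H16.PHe.P c1y0ce_W) c1y0ce_P (nat_lit 0)) (nat_lit 0) (nat_lit 2058) = true := by decide +kernel
theorem c1y0ce_m_1_0 : allZ (matEnt (wdsP H16.PHe.P c1y0ce_W) c1y0ce_P (nat_lit 1)) (nat_lit 0) (nat_lit 2058) = true := by decide +kernel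
theorem c1y0ce_m_2_0 : allZ (matEnt (wdsP H16.PHe.P c1y0ce_W) c1y0ce_P (nat_lit 2)) (nat_lit 0) (nat_lit 2058) = true := by decide +kernel
theorem c1y0cc7_e_0 : allZ (dent c1y0cc7 c1y0ce_P (nat_lit 2058)) (nat_lit 0) (nat_lit 1) = true := by decide +kernel
theorem c1y0cc7_h : 0 < c1y0cc7.n ∧ 0 < c1y0cc7.K ∧ c1y0cc7.Pt 0 < 2058 ∧ c1y0cc7.Q (c1y0cc7.Pt 0) = 0 := by decide +kernel
theorem c1y0tn0_0 : (Nat.ble c1y0tl7.K 16 && Nat.beq (ltAll 2058 [c1y0tl6.Pt 0, c1y0tl5.Pt 0, c1y0tl4.Pt 0, c1y0tl3.Pt 0, c1y0tl2.Pt 0, c1y0tl1.Pt 0, c1y0tl0.Pt 0]) 0 && kChk c1y0ce_P c1y0x_P c1y0tn0.Kn 1 H16.PHe.B [c1y0tl6.Pt 0, c1y0tl5.Pt 0, c1y0tl4.Pt 0, c1y0tl3.Pt 0, c1y0tl2.Pt 0, c1y0tl1.Pt 0, c1y0tl0.Pt 0] && H16.allL (ltAll 1) c1y0tn0.pre && planOK c1y0th_P c1y0x_P 1 (c1y0tl7.Pt 0) c1y0tn0.plan [c1y0tl7]) = true :=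 by decide +kernel
theorem c1y0tn0_1_0 : allZ (c1y0tn0.ent H16.PHe.P c1y0th_P c1y0x_P c1y0x_P c1y0ce_P (nat_lit 7) (nat_lit 1) H16.PHe.B c1y0tl7 [] (memO c1y0cc7)) (nat_lit 0) (nat_lit 2) = true := by decide +kernel
theorem c1y0c_f7 : (Nat.ble c1y0cc7.K 3 && Nat.ble (topK []) c1y0cc7.K && Nat.beq (c1y0cc7.Pt 0) (c1y0tl7.Pt 0) && Nat.beq (ltAll 2058 [c1y0tl6.Pt 0, c1y0tl5.Pt 0, c1y0tl4.Pt 0, c1y0tl3.Pt 0, c1y0tl2.Pt 0, c1y0tl1.Pt 0, c1y0tl0.Pt 0]) 0 && kChk c1y0ce_P c1y0x_P c1y0cc7.K 1 H16.PHe.B [c1y0tl6.Pt 0, c1y0tl5.Pt 0, c1y0tl4.Pt 0, c1y0tl3.Pt 0, c1y0tl2.Pt 0, c1y0tl1.Pt 0, c1y0tl0.Pt 0]) = true := by decide +kernel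
theorem c1y0tn1y489_lt : H16.allL (ltAll 7) c1y0tn1y489_W = true := by decide +kernel
theorem c1y0tr2k_lt : H16.allL (ltAll 7) c1y0tr2k_W = true := by decide +kernel
theorem c1y0tn2_0 : (Nat.ble c1y0tl7.K 16 && Nat.beq (ltAll 2058 [c1y0tl6.Pt 0, c1y0tl5.Pt 0, c1y0tl4.Pt 0, c1y0tl3.Pt 0, c1y0tl2.Pt 0, c1y0tl1.Pt 0, c1y0tl0.Pt 0]) 0 && kChk c1y0tr2k_P c1y0tn1y489_P c1y0tn2.Kn 1 H16.PHe.B [c1y0tl6.Pt 0, c1y0tl5.Pt 0, c1y0tl4.Pt 0, c1y0tl3.Pt 0, c1y0tl2.Pt 0, c1y0tl1.Pt 0, c1y0tl0.Pt 0] && H16.allL (ltAll 1) c1y0tn2.pre && planOK c1y0th_P c1y0x_P 1 (c1y0tl7.Pt 0) c1y0tn2.plan [c1y0tl7]) = true := by decide +kernel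
theorem c1y0tn2_1_0 : allZ (c1y0tn2.ent H16.PHe.P c1y0th_P c1y0x_P c1y0tn1y489_P c1y0tr2k_P (nat_lit 7) (nat_lit 1) H16.PHe.B c1y0tl7 [] (fun _ => nat_lit 1)) (nat_lit 0) (nat_lit 2) = true := by decide +kernel
theorem c1y0tn1_0 : (Nat.ble c1y0tl6.K 16 && Nat.beq (ltAll 2058 [c1y0tl5.Pt 0, c1y0tl4.Pt 0, c1y0tl3.Pt 0, c1y0tl2.Pt 0, c1y0tl1.Pt 0, c1y0tl0.Pt 0]) 0 && kChk c1y0ce_P c1y0x_P c1y0tn1.Kn 1 H16.PHe.B [c1y0tl5.Pt 0, c1y0tl4.Pt 0, c1y0tl3.Pt 0, c1y0tl2.Pt 0, c1y0tl1.Pt 0, c1y0tl0.Pt 0] && H16.allL (ltAll 1) c1y0tn1.pre && planOK c1y0th_P c1y0x_P 1 (c1y0tl6.Pt 0) c1y0tn1.plan [c1y0tl6, c1y0tl7]) = true := by decide +kernel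
theorem c1y0tn1_1_0 : allZ (c1y0tn1.ent H16.PHe.P c1y0th_P c1y0x_P c1y0x_P c1y0ce_P (nat_lit 7) (nat_lit 1) H16.PHe.B c1y0tl6 [c1y0tl7] (fun w => Nat.xor w (c1y0tl6.Pt (nat_lit 0)))) (nat_lit 0) (nat_lit 2) = true := by decide +kernel
theorem c1y0cc5_e_0 : allZ (dent c1y0cc5 c1y0ce_P (nat_lit 2058)) (nat_lit 0) (nat_lit 1) = true := by decide +kernel
theorem c1y0cc5_h : 0 < c1y0cc5.n ∧ 0 < c1y0cc5.K ∧ c1y0cc5.Pt 0 < 2058 ∧ c1y0cc5.Q (c1y0cc5.Pt 0) = 0 := by decide +kernel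
theorem c1y0tn3_0 : (Nat.ble c1y0tl5.K 16 && Nat.beq (ltAll 2058 [c1y0tl4.Pt 0, c1y0tl3.Pt 0, c1y0tl2.Pt 0, c1y0tl1.Pt 0, c1y0tl0.Pt 0]) 0 && kChk c1y0ce_P c1y0x_P c1y0tn3.Kn 1 H16.PHe.B [c1y0tl4.Pt 0, c1y0tl3.Pt 0, c1y0tl2.Pt 0, c1y0tl1.Pt 0, c1y0tl0.Pt 0] && H16.allL (ltAll 1) c1y0tn3.pre && planOK c1y0th_P c1y0x_P 1 (c1y0tl5.Pt 0) c1y0tn3.plan [c1y0tl5, c1y0tl6, c1y0tl7]) = true := by decide +kernel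
theorem c1y0tn3_1_0 : allZ (c1y0tn3.ent H16.PHe.P c1y0th_P c1y0x_P c1y0x_P c1y0ce_P (nat_lit 7) (nat_lit 1) H16.PHe.B c1y0tl5 [c1y0tl6, c1y0tl7] (memO c1y0cc5)) (nat_lit 0) (nat_lit 2) = true := by decide +kernel
theorem c1y0c_f5 : (Nat.ble c1y0cc5.K 3 && Nat.ble (topK [c1y0cc7]) c1y0cc5.K && Nat.beq (c1y0cc5.Pt 0) (c1y0tl5.Pt 0) && Nat.beq (ltAll 2058 [c1y0tl4.Pt 0, c1y0tl3.Pt 0, c1y0tl2.Pt 0, c1y0tl1.Pt 0, c1y0tl0.Pt 0]) 0 && kChk c1y0ce_P c1y0x_P c1y0cc5.K 1 H16.PHe.B [c1y0tl4.Pt 0, c1y0tl3.Pt 0, c1y0tl2.Pt 0, c1y0tl1.Pt 0, c1y0tl0.Pt 0]) = true := by decide +kernel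
theorem c1y0c_f4 : (Nat.ble c1y0tl4.K 16 && Nat.blt (nat_lit 0) 2058 && fixLetters c1y0th_P c1y0tl4.K (nat_lit 0) && Nat.beq (ltAll 1 [nat_lit 0, nat_lit 0, nat_lit 0, nat_lit 0]) 0 && Nat.beq (apW c1y0x_P [nat_lit 0, nat_lit 0, nat_lit 0, nat_lit 0] (nat_lit 0)) (c1y0tl4.Pt 0)) = true := by decide +kernel
theorem c1y0c_f3 : (Nat.ble c1y0tl3.K 16 && Nat.blt (nat_lit 0) 2058 && fixLetters c1y0th_P c1y0tl3.K (nat_lit 0) && Nat.beq (ltAll 1 [nat_lit 0, nat_lit 0, nat_lit 0]) 0 && Nat.beq (apW c1y0x_P [nat_lit 0, nat_lit 0, nat_lit 0] (nat_lit 0)) (c1y0tl3.Pt 0)) = true := by decide +kernel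
theorem c1y0c_f2 : (Nat.ble c1y0tl2.K 16 && Nat.blt (nat_lit 0) 2058 && fixLetters c1y0th_P c1y0tl2.K (nat_lit 0) && Nat.beq (ltAll 1 [nat_lit 0, nat_lit 0]) 0 && Nat.beq (apW c1y0x_P [nat_lit 0, nat_lit 0] (nat_lit 0)) (c1y0tl2.Pt 0)) = true := by decide +kernel
theorem c1y0c_f1 : (Nat.ble c1y0tl1.K 16 && Nat.blt (nat_lit 0) 2058 && fixLetters c1y0th_P c1y0tl1.K (nat_lit 0) && Nat.beq (ltAll 1 [nat_lit 0]) 0 && Nat.beq (apW c1y0x_P [nat_lit 0] (nat_lit 0)) (c1y0tl1.Pt 0)) = true := by decide +kernel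
theorem c1y0cc0_e_0 : allZ (dent c1y0cc0 c1y0ce_P (nat_lit 2058)) (nat_lit 0) (nat_lit 13) = true := by decide +kernel
theorem c1y0cc0_h : 0 < c1y0cc0.n ∧ 0 < c1y0cc0.K ∧ c1y0cc0.Pt 0 < 2058 ∧ c1y0cc0.Q (c1y0cc0.Pt 0) = 0 := by decide +kernel
theorem c1y0tn4y402_lt : H16.allL (ltAll 7) c1y0tn4y402_W = true := by decide +kernel
theorem c1y0tr5k_lt : H16.allL (ltAll 7) c1y0tr5k_W = true := by decide +kernel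
theorem c1y0tn5_0 : (Nat.ble c1y0tl5.K 16 && Nat.beq (ltAll 2058 [c1y0tl4.Pt 0, c1y0tl3.Pt 0, c1y0tl2.Pt 0, c1y0tl1.Pt 0, c1y0tl0.Pt 0]) 0 && kChk c1y0tr5k_P c1y0tn4y402_P c1y0tn5.Kn 1 H16.PHe.B [c1y0tl4.Pt 0, c1y0tl3.Pt 0, c1y0tl2.Pt 0, c1y0tl1.Pt 0, c1y0tl0.Pt 0] && H16.allL (ltAll 1) c1y0tn5.pre && planOK c1y0th_P c1y0x_P 1 (c1y0tl5.Pt 0) c1y0tn5.plan [c1y0tl5, c1y0tl6, c1y0tl7]) = true := by decide +kernel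
theorem c1y0tn5_1_0 : allZ (c1y0tn5.ent H16.PHe.P c1y0th_P c1y0x_P c1y0tn4y402_P c1y0tr5k_P (nat_lit 7) (nat_lit 1) H16.PHe.B c1y0tl5 [c1y0tl6, c1y0tl7] (fun _ => nat_lit 1)) (nat_lit 0) (nat_lit 2) = true := by decide +kernel
theorem c1y0tn4y1936_lt : H16.allL (ltAll 7) c1y0tn4y1936_W = true := by decide +kernel
theorem c1y0tr6k_lt : H16.allL (ltAll 7) c1y0tr6k_W = true := by decide +kernel
theorem c1y0tn6_0 : (Nat.ble c1y0tl5.K 16 && Nat.beq (ltAll 2058 [c1y0tl4.Pt 0, c1y0tl3.Pt 0, c1y0tl2.Pt 0, c1y0tl1.Pt 0, c1y0tl0.Pt 0]) 0 && kChk c1y0tr6k_P c1y0tn4y1936_P c1y0tn6.Kn 1 H16.PHe.B [c1y0tl4.Pt 0, c1y0tl3.Pt 0, c1y0tl2.Pt 0, c1y0tl1.Pt 0, c1y0tl0.Pt 0] && H16.allL (ltAll 1) c1y0tn6.pre && planOK c1y0th_P c1y0x_P 1 (c1y0tl5.Pt 0) c1y0tn6.plan [c1y0tl5, c1y0tl6, c1y0tl7]) = true := by decide +kernel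
theorem c1y0tn6_1_0 : allZ (c1y0tn6.ent H16.PHe.P c1y0th_P c1y0x_P c1y0tn4y1936_P c1y0tr6k_P (nat_lit 7) (nat_lit 1) H16.PHe.B c1y0tl5 [c1y0tl6, c1y0tl7] (fun _ => nat_lit 1)) (nat_lit 0) (nat_lit 2) = true := by decide +kernel
theorem c1y0tn4_0 : (Nat.ble c1y0tl0.K 16 && Nat.beq (ltAll 2058 []) 0 && kChk c1y0ce_P c1y0x_P c1y0tn4.Kn 1 H16.PHe.B [] && H16.allL (ltAll 1) c1y0tn4.pre && planOK c1y0th_P c1y0x_P 1 (c1y0tl0.Pt 0) c1y0tn4.plan [c1y0tl0, c1y0tl1, c1y0tl2, c1y0tl3, c1y0tl4, c1y0tl5, c1y0tl6, c1y0tl7]) = true := by decide +kernel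
theorem c1y0tn4_1_0 : allZ (c1y0tn4.ent H16.PHe.P c1y0th_P c1y0x_P c1y0x_P c1y0ce_P (nat_lit 7) (nat_lit 1) H16.PHe.B c1y0tl0 [c1y0tl1, c1y0tl2, c1y0tl3, c1y0tl4, c1y0tl5, c1y0tl6, c1y0tl7] (memO c1y0cc0)) (nat_lit 0) (nat_lit 2058) = true := by decide +kernel
theorem c1y0c_f0 : (Nat.ble c1y0cc0.K 3 && Nat.ble (topK [c1y0cc5, c1y0cc7]) c1y0cc0.K && Nat.beq (c1y0cc0.Pt 0) (c1y0tl0.Pt 0) && Nat.beq (ltAll 2058 []) 0 && kChk c1y0ce_P c1y0x_P c1y0cc0.K 1 H16.PHe.B []) = true := by decide +kernel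
theorem c1y0c_c : chainCard [c1y0cc0, c1y0cc5, c1y0cc7] = 56 ∧ topK [c1y0cc0, c1y0cc5, c1y0cc7] = 3 := by decide +kernel
theorem c1w0_k : eqL c1w0_P 2 H16.PHe.B (List.replicate 7 1) [0] = 0 := by decide +kernel
theorem c1w0p_k : fixL c1w0_P 2 H16.PHe.B (List.replicate 2 0) = 0 := by decide +kernel
theorem c1w0n_k : 0 < 2058 ∧ ltAll 2 (List.replicate 2 1) = 0 ∧ ltAll 2 [] = 0 ∧ apW c1w0_P (List.replicate 2 1) 0 ≠ apW c1w0_P [] 0 := by decide +kernel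

end H15.IC.He
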