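import Cfsg.Agent.H15.IC.He.D0

/-! Generated by tools/h15/ic/ic.py (kit tools/h0/tr). -/

set_option maxRecDepth 100000
set_option maxHeartbeats 0

namespace H15.IC.He
open H16 H0.TR
open scoped commutatorElement Pointwise

theorem md_b : ltAll 2058 H16.PHe.B = 0 ∧ 4030387200 ≠ 0 := by decide +kernel
theorem p2t_lt : H16.allL (ltAll 7) p2t_W = true := by decide +kernel
theorem p2t_m_0_0 : allZ (matEnt (wdsP H16.PHe.P p2t_W) p2t_P (nat_lit 0)) (nat_lit 0) (nat_lit 1792) = true := by decide +kernel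
theorem p2t_m_0_1 : allZ (matEnt (wdsP H16.PHe.P p2t_W) p2t_P (nat_lit 0)) (nat_lit 1792) (nat_lit 266) = true := by decide +kernel
theorem p2t_m_1_0 : allZ (matEnt (wdsP H16.PHe.P p2t_W) p2t_P (nat_lit 1)) (nat_lit 0) (nat_lit 2058) = true := by decide +kernel
theorem p2t_m_2_0 : allZ (matEnt (wdsP H16.PHe.P p2t_W) p2t_P (nat_lit 2)) (nat_lit 0) (nat_lit 2058) = true := by decide +kernel
theorem p2t_m_3_0 : allZ (matEnt (wdsP H16.PHe.P p2t_W) p2t_P (nat_lit 3)) (nat_lit 0) (nat_lit 1856) = true := by decide +kernel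
theorem p2t_m_3_1 : allZ (matEnt (wdsP H16.PHe.P p2t_W) p2t_P (nat_lit 3)) (nat_lit 1856) (nat_lit 202) = true := by decide +kernel
theorem p2t_m_4_0 : allZ (matEnt (wdsP H16.PHe.P p2t_W) p2t_P (nat_lit 4)) (nat_lit 0) (nat_lit 1664) = true := by decide +kernel
theorem p2t_m_4_1 : allZ (matEnt (wdsP H16.PHe.P p2t_W) p2t_P (nat_lit 4)) (nat_lit 1664) (nat_lit 394) = true := by decide +kernel
theorem p2t_m_5_0 : allZ (matEnt (wdsP H16.PHe.P p2t_W) p2t_P (nat_lit 5)) (nat_lit 0) (nat_lit 2058) = true := by decide +kernel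
theorem p2t_m_6_0 : allZ (matEnt (wdsP H16.PHe.P p2t_W) p2t_P (nat_lit 6)) (nat_lit 0) (nat_lit 1856) = true := by decide +kernel
theorem p2t_m_6_1 : allZ (matEnt (wdsP H16.PHe.P p2t_W) p2t_P (nat_lit 6)) (nat_lit 1856) (nat_lit 202) = true := by decide +kernel
theorem p2t_m_7_0 : allZ (matEnt (wdsP H16.PHe.P p2t_W) p2t_P (nat_lit 7)) (nat_lit 0) (nat_lit 1792) = true := by decide +kernel
theorem p2t_m_7_1 : allZ (matEnt (wdsP H16.PHe.P p2t_W) p2t_P (nat_lit 7)) (nat_lit 1792) (nat_lit 266) = true := by decide +kernel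
theorem p2t_m_8_0 : allZ (matEnt (wdsP H16.PHe.P p2t_W) p2t_P (nat_lit 8)) (nat_lit 0) (nat_lit 2058) = true := by decide +kernel
theorem p2t_m_9_0 : allZ (matEnt (wdsP H16.PHe.P p2t_W) p2t_P (nat_lit 9)) (nat_lit 0) (nat_lit 1600) = true := by decide +kernel
theorem p2t_m_9_1 : allZ (matEnt (wdsP H16.PHe.P p2t_W) p2t_P (nat_lit 9)) (nat_lit 1600) (nat_lit 458) = true := by decide +kernel
theorem p2_r_a : allZ2 (resEnt p2t_P p2P p2E p2I (nat_lit 2058) (nat_lit 800)) (nat_lit 10) (nat_lit 800) = true := by decide +kernel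
theorem p2_b : neL H16.PHe.B (p2B.map p2E) = 0 ∧ ltAll 800 p2B = 0 := by decide +kernel
theorem p2_p : allZ2 (pcEnt p2P (nat_lit 2) p2B p2C) 10 10 = true := by decide +kernel
theorem p2_e : H16.allL (ltAll 10) p2e = true := by decide +kernel
theorem p2l0_e_0 : allZ (dent p2l0 (wdsP p2P p2e) (nat_lit 800)) (nat_lit 0) (nat_lit 31) = true := by decide +kernel
theorem p2l0_h : 0 < p2l0.n ∧ 0 < p2l0.K ∧ p2l0.Pt 0 < 800 ∧ p2l0.Q (p2l0.Pt 0) = 0 := by decide +kernel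
theorem p2l1_e_0 : allZ (dent p2l1 (wdsP p2P p2e) (nat_lit 800)) (nat_lit 0) (nat_lit 7) = true := by decide +kernel
theorem p2l1_h : 0 < p2l1.n ∧ 0 < p2l1.K ∧ p2l1.Pt 0 < 800 ∧ p2l1.Q (p2l1.Pt 0) = 0 := by decide +kernel
theorem p2l2_e_0 : allZ (dent p2l2 (wdsP p2P p2e) (nat_lit 800)) (nat_lit 0) (nat_lit 3) = true := by decide +kernel
theorem p2l2_h : 0 < p2l2.n ∧ 0 < p2l2.K ∧ p2l2.Pt 0 < 800 ∧ p2l2.Q (p2l2.Pt 0) = 0 := by decide +kernel
theorem p2_f2 : (Nat.ble p2l2.K 45 && Nat.ble (topK []) p2l2.K && fixLetters (wdsP p2P p2e) (topK []) (p2l2.Pt 0)) = true := by decide +kernel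
theorem p2_f1 : (Nat.ble p2l1.K 45 && Nat.ble (topK [p2l2]) p2l1.K && fixLetters (wdsP p2P p2e) (topK [p2l2]) (p2l1.Pt 0)) = true := by decide +kernel
theorem p2_f0 : (Nat.ble p2l0.K 45 && Nat.ble (topK [p2l1, p2l2]) p2l0.K && fixLetters (wdsP p2P p2e) (topK [p2l1, p2l2]) (p2l0.Pt 0)) = true := by decide +kernel
theorem p2_c : chainCard [p2l0, p2l1, p2l2] = 2 ^ 10 ∧ ¬ 2 ^ (10 + 1) ∣ 4030387200 := by decide +kernel
theorem covr_lt : H16.allL (ltAll 7) covr_W = true := by decide +kernel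
theorem covr_m_0_0 : allZ (matEnt (wdsP H16.PHe.P covr_W) covr_P (nat_lit 0)) (nat_lit 0) (nat_lit 1728) = true := by decide +kernel
theorem covr_m_0_1 : allZ (matEnt (wdsP H16.PHe.P covr_W) covr_P (nat_lit 0)) (nat_lit 1728) (nat_lit 330) = true := by decide +kernel
theorem covr_m_1_0 : allZ (matEnt (wdsP H16.PHe.P covr_W) covr_P (nat_lit 1)) (nat_lit 0) (nat_lit 2058) = true := by decide +kernel
theorem cov_c0 : (Nat.ble 9 10 && Nat.beq (ltAll 10 []) 0 && Nat.beq (covT0.chk H16.PHe.P p2P covr_P p2E 7 10 2 2 2 p2B 9 [] 0) 0) = true := by decide +kernel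
theorem cov_c1 : (Nat.ble 9 10 && Nat.beq (ltAll 10 [nat_lit 9]) 0 && Nat.beq (covT1.chk H16.PHe.P p2P covr_P p2E 7 10 2 2 2 p2B 9 [nat_lit 9] 0) 0) = true := by decide +kernel
theorem c0ax_lt : H16.allL (ltAll 7) c0ax_W = true := by decide +kernel
theorem c0ax_m_0_0 : allZ (matEnt (wdsP H16.PHe.P c0ax_W) c0ax_P (nat_lit 0)) (nat_lit 0) (nat_lit 1728) = true := by decide +kernel
theorem c0ax_m_0_1 : allZ (matEnt (wdsP H16.PHe.P c0ax_W) c0ax_P (nat_lit 0)) (nat_lit 1728) (nat_lit 330) = true := by decide +kernel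
theorem c0ath_lt : H16.allL (ltAll 7) c0ath_W = true := by decide +kernel
theorem c0ath_m_0_0 : allZ (matEnt (wdsP H16.PHe.P c0ath_W) c0ath_P (nat_lit 0)) (nat_lit 0) (nat_lit 2058) = true := by decide +kernel
theorem c0ath_m_1_0 : allZ (matEnt (wdsP H16.PHe.P c0ath_W) c0ath_P (nat_lit 1)) (nat_lit 0) (nat_lit 1920) = true := by decide +kernel
theorem c0ath_m_1_1 : allZ (matEnt (wdsP H16.PHe.P c0ath_W) c0ath_P (nat_lit 1)) (nat_lit 1920) (nat_lit 138) = true := by decide +kernel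
theorem c0ath_m_2_0 : allZ (matEnt (wdsP H16.PHe.P c0ath_W) c0ath_P (nat_lit 2)) (nat_lit 0) (nat_lit 2058) = true := by decide +kernel
theorem c0ath_m_3_0 : allZ (matEnt (wdsP H16.PHe.P c0ath_W) c0ath_P (nat_lit 3)) (nat_lit 0) (nat_lit 2058) = true := by decide +kernel
theorem c0ath_m_4_0 : allZ (matEnt (wdsP H16.PHe.P c0ath_W) c0ath_P (nat_lit 4)) (nat_lit 0) (nat_lit 2058) = true := by decide +kernel
theorem c0ath_m_5_0 : allZ (matEnt (wdsP H16.PHe.P c0ath_W) c0ath_P (nat_lit 5)) (nat_lit 0) (nat_lit 2058) = true := by decide +kernel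
theorem c0ath_m_6_0 : allZ (matEnt (wdsP H16.PHe.P c0ath_W) c0ath_P (nat_lit 6)) (nat_lit 0) (nat_lit 2058) = true := by decide +kernel
theorem c0ath_m_7_0 : allZ (matEnt (wdsP H16.PHe.P c0ath_W) c0ath_P (nat_lit 7)) (nat_lit 0) (nat_lit 2058) = true := by decide +kernel
theorem c0ath_m_8_0 : allZ (matEnt (wdsP H16.PHe.P c0ath_W) c0ath_P (nat_lit 8)) (nat_lit 0) (nat_lit 2058) = true := by decide +kernel
theorem c0ath_m_9_0 : allZ (matEnt (wdsP H16.PHe.P c0ath_W) c0ath_P (nat_lit 9)) (nat_lit 0) (nat_lit 2058) = true := by decide +kernel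
theorem c0ath_m_10_0 : allZ (matEnt (wdsP H16.PHe.P c0ath_W) c0ath_P (nat_lit 10)) (nat_lit 0) (nat_lit 2058) = true := by decide +kernel
theorem c0ath_m_11_0 : allZ (matEnt (wdsP H16.PHe.P c0ath_W) c0ath_P (nat_lit 11)) (nat_lit 0) (nat_lit 2058) = true := by decide +kernel
theorem c0ath_m_12_0 : allZ (matEnt (wdsP H16.PHe.P c0ath_W) c0ath_P (nat_lit 12)) (nat_lit 0) (nat_lit 2058) = true := by decide +kernel
theorem c0ath_m_13_0 : allZ (matEnt (wdsP H16.PHe.P c0ath_W) c0ath_P (nat_lit 13)) (nat_lit 0) (nat_lit 2058) = true := by decide +kernel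
theorem c0ath_m_14_0 : allZ (matEnt (wdsP H16.PHe.P c0ath_W) c0ath_P (nat_lit 14)) (nat_lit 0) (nat_lit 2058) = true := by decide +kernel
theorem c0ath_m_15_0 : allZ (matEnt (wdsP H16.PHe.P c0ath_W) c0ath_P (nat_lit 15)) (nat_lit 0) (nat_lit 2058) = true := by decide +kernel
theorem c0ath_m_16_0 : allZ (matEnt (wdsP H16.PHe.P c0ath_W) c0ath_P (nat_lit 16)) (nat_lit 0) (nat_lit 2058) = true := by decide +kernel
theorem c0atl0_e_0 : allZ (dent c0atl0 c0ath_P (nat_lit 2058)) (nat_lit 0) (nat_lit 2057) = true := by decide +kernel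
theorem c0atl0_h : 0 < c0atl0.n ∧ 0 < c0atl0.K ∧ c0atl0.Pt 0 < 2058 ∧ c0atl0.Q (c0atl0.Pt 0) = 0 := by decide +kernel
theorem c0atl1_e_0 : allZ (dent c0atl1 c0ath_P (nat_lit 2058)) (nat_lit 0) (nat_lit 135) = true := by decide +kernel
theorem c0atl1_h : 0 < c0atl1.n ∧ 0 < c0atl1.K ∧ c0atl1.Pt 0 < 2058 ∧ c0atl1.Q (c0atl1.Pt 0) = 0 := by decide +kernel
theorem c0atl2_e_0 : allZ (dent c0atl2 c0ath_P (nat_lit 2058)) (nat_lit 0) (nat_lit 49) = true := by decide +kernel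
theorem c0atl2_h : 0 < c0atl2.n ∧ 0 < c0atl2.K ∧ c0atl2.Pt 0 < 2058 ∧ c0atl2.Q (c0atl2.Pt 0) = 0 := by decide +kernel
theorem c0atl3_e_0 : allZ (dent c0atl3 c0ath_P (nat_lit 2058)) (nat_lit 0) (nat_lit 3) = true := by decide +kernel
theorem c0atl3_h : 0 < c0atl3.n ∧ 0 < c0atl3.K ∧ c0atl3.Pt 0 < 2058 ∧ c0atl3.Q (c0atl3.Pt 0) = 0 := by decide +kernel
theorem c0atl4_e_0 : allZ (dent c0atl4 c0ath_P (nat_lit 2058)) (nat_lit 0) (nat_lit 2) = true := by decide +kernel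
theorem c0atl4_h : 0 < c0atl4.n ∧ 0 < c0atl4.K ∧ c0atl4.Pt 0 < 2058 ∧ c0atl4.Q (c0atl4.Pt 0) = 0 := by decide +kernel
theorem c0atl5_e_0 : allZ (dent c0atl5 c0ath_P (nat_lit 2058)) (nat_lit 0) (nat_lit 1) = true := by decide +kernel
theorem c0atl5_h : 0 < c0atl5.n ∧ 0 < c0atl5.K ∧ c0atl5.Pt 0 < 2058 ∧ c0atl5.Q (c0atl5.Pt 0) = 0 := by decide +kernel
theorem c0atl6_e_0 : allZ (dent c0atl6 c0ath_P (nat_lit 2058)) (nat_lit 0) (nat_lit 2) = true := by decide +kernel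
theorem c0atl6_h : 0 < c0atl6.n ∧ 0 < c0atl6.K ∧ c0atl6.Pt 0 < 2058 ∧ c0atl6.Q (c0atl6.Pt 0) = 0 := by decide +kernel
theorem c0atl7_e_0 : allZ (dent c0atl7 c0ath_P (nat_lit 2058)) (nat_lit 0) (nat_lit 1) = true := by decide +kernel
theorem c0atl7_h : 0 < c0atl7.n ∧ 0 < c0atl7.K ∧ c0atl7.Pt 0 < 2058 ∧ c0atl7.Q (c0atl7.Pt 0) = 0 := by decide +kernel
theorem c0atl8_e_0 : allZ (dent c0atl8 c0ath_P (nat_lit 2058)) (nat_lit 0) (nat_lit 1) = true := by decide +kernel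
theorem c0atl8_h : 0 < c0atl8.n ∧ 0 < c0atl8.K ∧ c0atl8.Pt 0 < 2058 ∧ c0atl8.Q (c0atl8.Pt 0) = 0 := by decide +kernel
theorem c0at_f8 : (Nat.ble c0atl8.K 17 && Nat.ble (topK []) c0atl8.K && fixLetters c0ath_P (topK []) (c0atl8.Pt 0)) = true := by decide +kernel
theorem c0at_f7 : (Nat.ble c0atl7.K 17 && Nat.ble (topK [c0atl8]) c0atl7.K && fixLetters c0ath_P (topK [c0atl8]) (c0atl7.Pt 0)) = true := by decide +kernel
theorem c0at_f6 : (Nat.ble c0atl6.K 17 && Nat.ble (topK [c0atl7, c0atl8]) c0atl6.K && fixLetters c0ath_P (topK [c0atl7, c0atl8]) (c0atl6.Pt 0)) = true := by decide +kernel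
theorem c0at_f5 : (Nat.ble c0atl5.K 17 && Nat.ble (topK [c0atl6, c0atl7, c0atl8]) c0atl5.K && fixLetters c0ath_P (topK [c0atl6, c0atl7, c0atl8]) (c0atl5.Pt 0)) = true := by decide +kernel
theorem c0at_f4 : (Nat.ble c0atl4.K 17 && Nat.ble (topK [c0atl5, c0atl6, c0atl7, c0atl8]) c0atl4.K && fixLetters c0ath_P (topK [c0atl5, c0atl6, c0atl7, c0atl8]) (c0atl4.Pt 0)) = true := by decide +kernel
theorem c0at_f3 : (Nat.ble c0atl3.K 17 && Nat.ble (topK [c0atl4, c0atl5, c0atl6, c0atl7, c0atl8]) c0atl3.K && fixLetters c0ath_P (topK [c0atl4, c0atl5, c0atl6, c0atl7, c0atl8]) (c0atl3.Pt 0)) = true := by decide +kernel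
theorem c0at_f2 : (Nat.ble c0atl2.K 17 && Nat.ble (topK [c0atl3, c0atl4, c0atl5, c0atl6, c0atl7, c0atl8]) c0atl2.K && fixLetters c0ath_P (topK [c0atl3, c0atl4, c0atl5, c0atl6, c0atl7, c0atl8]) (c0atl2.Pt 0)) = true := by decide +kernel
theorem c0at_f1 : (Nat.ble c0atl1.K 17 && Nat.ble (topK [c0atl2, c0atl3, c0atl4, c0atl5, c0atl6, c0atl7, c0atl8]) c0atl1.K && fixLetters c0ath_P (topK [c0atl2, c0atl3, c0atl4, c0atl5, c0atl6, c0atl7, c0atl8]) (c0atl1.Pt 0)) = true := by decide +kernel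
theorem c0at_f0 : (Nat.ble c0atl0.K 17 && Nat.ble (topK [c0atl1, c0atl2, c0atl3, c0atl4, c0atl5, c0atl6, c0atl7, c0atl8]) c0atl0.K && fixLetters c0ath_P (topK [c0atl1, c0atl2, c0atl3, c0atl4, c0atl5, c0atl6, c0atl7, c0atl8]) (c0atl0.Pt 0)) = true := by decide +kernel
theorem c0at_c : chainCard [c0atl0, c0atl1, c0atl2, c0atl3, c0atl4, c0atl5, c0atl6, c0atl7, c0atl8] = 4030387200 := by decide +kernel
theorem c0ace_lt : H16.allL (ltAll 7) c0ace_W = true := by decide +kernel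
theorem c0ace_m_0_0 : allZ (matEnt (wdsP H16.PHe.P c0ace_W) c0ace_P (nat_lit 0)) (nat_lit 0) (nat_lit 2058) = true := by decide +kernel
theorem c0ace_m_1_0 : allZ (matEnt (wdsP H16.PHe.P c0ace_W) c0ace_P (nat_lit 1)) (nat_lit 0) (nat_lit 2058) = true := by decide +kernel
theorem c0ace_m_2_0 : allZ (matEnt (wdsP H16.PHe.P c0ace_W) c0ace_P (nat_lit 2)) (nat_lit 0) (nat_lit 2058) = true := by decide +kernel
theorem c0ace_m_3_0 : allZ (matEnt (wdsP H16.PHe.P c0ace_W) c0ace_P (nat_lit 3)) (nat_lit 0) (nat_lit 2058) = true := by decide +kernel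

end H15.IC.He
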